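import Cfsg.Agent.Lib.Recog.SporBound.Presented
import Cfsg.Agent.Lib.Recog.SporBound.Fi22A.Valid
import Cfsg.Agent.Lib.Recog.SporBound.Fi22B.Valid
import Cfsg.Agent.Lib.Recog.SporBound.Fi22C.Valid
import Cfsg.Agent.Lib.Recog.SporBound.Fi22D.Valid
import Cfsg.Agent.Lib.Recog.SporBound.Fi22Collapse.Valid
import Cfsg.Agent.Lib.Recog.SporBound.Fi22Chain.Data
import Cfsg.Agent.S1687
import Cfsg.Prelude.Def_Sporadic
import Cfsg.Prelude.Def_Spor_Fi22

/-!
The presented group Fi22 has order 64561751654400 and is simple; the subgroup of its last eight generators has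
order 4585351680 (owner: helper6; after SuzGroup of helper13).
-/

set_option autoImplicit false

namespace CfsgLib.Recog.SporBound.Fi22Group

open Cfsg CfsgLib.ThreeTrans.CosetIndex
open Cfsg.Agent.S1687 (gens words fits)

theorem nodes : Nodes Spor.Fi22.edges gens := ⟨fits.nodes, fits.mem, by decide⟩

/-- the letters as elements of the presented group -/
abbrev a (x : ℕ) : Spor.Fi22 := gen Spor.Fi22.edges Spor.Fi22.extra gens x

/-- the point stabiliser -/
abbrev K : Subgroup Spor.Fi22 :=
  (Subgroup.closure {r | r ∈ words}).map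
    (PresentedGroup.mk (Spor.coxRelators Spor.Fi22.edges ∪ {r | r ∈ Spor.Fi22.extra}))

section Tower

variable {edges : List (Spor.Fi22.Gen × ℕ × Spor.Fi22.Gen)} {extra : List (FreeGroup Spor.Fi22.Gen)}

theorem layer (hN : Nodes edges gens) {C : Cert} {kl : List ℕ} (hC : C.OK) (hkl : C.kl = kl)
    (hrels : C.rels.all (fun w => (relWords edges extra gens).contains w) = true)
    {H : Subgroup (Spor.CoxPresented Spor.Fi22.Gen edges extra)} [Finite H] {m : ℕ} (hm : Nat.card H ≤ m)
    (hsub : Cert.WordsIn (gen edges extra gens) H C.subs) :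
    Finite (letterSub edges extra gens kl) ∧ Nat.card (letterSub edges extra gens kl) ≤ C.n * m := by
  subst hkl
  refine tower_step hN hC H hm (rels_one hN (more := []) (fun _ h => absurd h List.not_mem_nil) ?_) hsub
  refine List.all_eq_true.2 fun w hw => ?_
  rw [List.all_eq_true.1 hrels w hw]; rfl

/-- The subgroup of the last eight letters, in any group on the nine letters satisfying their relations. -/
theorem card_eight_le (hN : Nodes edges gens)
    (hA : Fi22A.cert.rels.all (fun w => (relWords edges extra gens).contains w) = true)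
    (hB : Fi22B.cert.rels.all (fun w => (relWords edges extra gens).contains w) = true)
    (hC : Fi22C.cert.rels.all (fun w => (relWords edges extra gens).contains w) = true) :
    Finite (letterSub edges extra gens [1, 2, 3, 4, 5, 6, 7, 8]) ∧
      Nat.card (letterSub edges extra gens [1, 2, 3, 4, 5, 6, 7, 8]) ≤ 4585351680 := by
  obtain ⟨f1, h1⟩ := layer hN Fi22A.ok (kl := [1, 2, 3, 4, 5, 6]) rfl hA (H := ⊥) (m := 1)
    (by simp) (fun w hw => absurd hw List.not_mem_nil)
  have h1' : Nat.card (letterSub edges extra gens [1, 2, 3, 4, 5, 6]) ≤ 5040 :=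
    h1.trans_eq (by rw [show Fi22A.cert.n = 5040 from rfl])
  obtain ⟨f2, h2⟩ := layer hN Fi22B.ok (kl := [1, 2, 3, 4, 5, 6, 7]) rfl hB
    (H := letterSub edges extra gens [1, 2, 3, 4, 5, 6]) h1' (wordsIn_letterSub (by decide +kernel))
  have h2' : Nat.card (letterSub edges extra gens [1, 2, 3, 4, 5, 6, 7]) ≤ 1451520 :=
    h2.trans_eq (by rw [show Fi22B.cert.n = 288 from rfl])
  obtain ⟨f3, h3⟩ := layer hN Fi22C.ok (kl := [1, 2, 3, 4, 5, 6, 7, 8]) rfl hC
    (H := letterSub edges extra gens [1, 2, 3, 4, 5, 6, 7]) h2' (wordsIn_letterSub (by decide +kernel))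
  exact ⟨f3, h3.trans_eq (by rw [show Fi22C.cert.n = 3159 from rfl])⟩

end Tower

/-- the subgroup of the last eight generators -/
abbrev L8 : Subgroup Spor.Fi22 := letterSub Spor.Fi22.edges Spor.Fi22.extra gens [1, 2, 3, 4, 5, 6, 7, 8]

theorem card_L8_le : Finite L8 ∧ Nat.card L8 ≤ 4585351680 :=
  card_eight_le nodes (by decide +kernel) (by decide +kernel) (by decide +kernel)

theorem card_le : Finite Spor.Fi22 ∧ Nat.card Spor.Fi22 ≤ 14080 * Nat.card L8 := by
  have := card_L8_le.1
  obtain ⟨f, h⟩ := layer (edges := Spor.Fi22.edges) (extra := Spor.Fi22.extra) nodes Fi22D.ok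
    (kl := List.range gens.length) rfl (by decide +kernel) (H := L8) le_rfl (wordsIn_letterSub (by decide +kernel))
  rw [letterSub_range nodes] at f h
  rw [Subgroup.card_top, show Fi22D.cert.n = 14080 from rfl] at h
  exact ⟨Finite.of_equiv _ Subgroup.topEquiv.toEquiv, h⟩

theorem finite_fi22 : Finite Spor.Fi22 := card_le.1

theorem index_K : K.index = 3510 := presented_index FiHat3510.valid fits

/-- the action on the rows of the table -/
noncomputable abbrev act : Spor.Fi22 →* Equiv.Perm (Fin FiHat3510.data.n) := toPerm FiHat3510.valid fits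

theorem card_and_faithful :
    Nat.card Spor.Fi22 = 64561751654400 ∧ Function.Injective act ∧ Nat.card K = 18393661440 ∧
      Nat.card L8 = 4585351680 ∧ L8.index = 14080 := by
  have := finite_fi22
  have hmul := K.index_mul_card
  rw [index_K] at hmul
  have hmul' := L8.index_mul_card
  have hle := card_le.2
  have hle8 := card_L8_le.2
  have hlow : 64561751654400 ≤ Nat.card act.range := by
    rw [← Fi22Chain.total_eq]
    exact OrbitChain.total_le_range FiHat3510.valid act (a := a) (toPerm_gen FiHat3510.valid fits)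
      Fi22Chain.chain_ok
  have hle' : Nat.card act.range ≤ Nat.card Spor.Fi22 :=
    Nat.card_le_card_of_surjective _ act.rangeRestrict_surjective
  have hcard : Nat.card Spor.Fi22 = 64561751654400 := by omega
  have h8 : Nat.card L8 = 4585351680 := by omega
  refine ⟨hcard, ?_, by omega, h8, ?_⟩
  · have hb := (Nat.bijective_iff_surjective_and_card act.rangeRestrict).2
      ⟨act.rangeRestrict_surjective, le_antisymm (by omega) hle'⟩
    exact fun x y h => hb.1 (Subtype.ext h)
  · rw [h8, hcard] at hmul'
    exact Nat.eq_of_mul_eq_mul_right (by norm_num) (hmul'.trans (by norm_num : (64561751654400 : ℕ) = 14080 * 4585351680))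

/-- A subgroup above `K` is `K` or the whole group. -/
theorem maximal {M : Subgroup Spor.Fi22} (hKM : K ≤ M) : M = K ∨ M = ⊤ := by
  classical
  have := finite_fi22
  obtain ⟨e, he⟩ := exists_presented_equiv FiHat3510.valid fits
  have o1 := (presented_orbit FiHat3510.valid fits (c₀ := (⟨7, by decide⟩ : Fin FiHat3510.data.n)) FiHat3510.orb0 e he).2
  have o2 := (presented_orbit FiHat3510.valid fits (c₀ := (⟨1, by decide⟩ : Fin FiHat3510.data.n)) FiHat3510.orb1 e he).2
  set q₁ := e.symm (⟨7, by decide⟩ : Fin FiHat3510.data.n)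
  set q₂ := e.symm (⟨1, by decide⟩ : Fin FiHat3510.data.n)
  set q₀ : Spor.Fi22 ⧸ K := ((1 : Spor.Fi22) : Spor.Fi22 ⧸ K)
  set O₁ := MulAction.orbit K q₁
  set O₂ := MulAction.orbit K q₂
  have h0 : ∀ k : K, k • q₀ = q₀ := fun k => by
    show (((k : Spor.Fi22) • (1 : Spor.Fi22) : Spor.Fi22) : Spor.Fi22 ⧸ K) = _
    rw [smul_eq_mul, mul_one, QuotientGroup.eq]
    simp
  have horb0 : MulAction.orbit K q₀ = {q₀} := by
    ext q
    simp only [MulAction.mem_orbit_iff, h0, Set.mem_singleton_iff]
    exact ⟨fun ⟨_, h⟩ => h.symm, fun h => ⟨1, h.symm⟩⟩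
  have n1 : q₀ ∉ O₁ := fun h => by
    have := congrArg Set.ncard (MulAction.orbit_eq_iff.2 h)
    rw [horb0, Set.ncard_singleton, o1] at this
    omega
  have n2 : q₀ ∉ O₂ := fun h => by
    have := congrArg Set.ncard (MulAction.orbit_eq_iff.2 h)
    rw [horb0, Set.ncard_singleton, o2] at this
    omega
  have hd : Disjoint O₁ O₂ := by
    refine (MulAction.orbit.eq_or_disjoint q₁ q₂).resolve_left fun h => ?_
    have := congrArg Set.ncard h
    rw [o1, o2] at this
    omega
  have hall : ∀ q, q = q₀ ∨ q ∈ O₁ ∨ q ∈ O₂ := by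
    intro q
    have hu : (insert q₀ (O₁ ∪ O₂)) = Set.univ := by
      refine Set.eq_of_subset_of_ncard_le (Set.subset_univ _) ?_
      rw [Set.ncard_univ, Set.ncard_insert_of_notMem (by simp [n1, n2]), Set.ncard_union_eq hd, o1, o2,
        show Nat.card (Spor.Fi22 ⧸ K) = 3510 from index_K]
    simpa using hu.ge (Set.mem_univ q)
  set S : Set (Spor.Fi22 ⧸ K) := (fun g : Spor.Fi22 => (g : Spor.Fi22 ⧸ K)) '' (M : Set Spor.Fi22)
  have hS : ∀ q ∈ S, ∀ k : K, k • q ∈ S := by
    rintro _ ⟨g, hg, rfl⟩ k
    exact ⟨(k : Spor.Fi22) * g, mul_mem (hKM k.2) hg, rfl⟩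
  have hsub : ∀ q ∈ S, MulAction.orbit K q ⊆ S := by
    rintro q hq _ ⟨k, rfl⟩
    exact hS q hq k
  have hcard : Nat.card S * M.index = 3510 := by
    have h1 : Nat.card S = K.relIndex M := by
      refine Nat.card_congr (Equiv.ofBijective
        (fun x : M ⧸ K.subgroupOf M => (⟨((Quotient.out x : M) : Spor.Fi22), _, (Quotient.out x).2, rfl⟩ : S))
        ⟨fun x y h => ?_, fun ⟨_, g, hg, rfl⟩ => ⟨((⟨g, hg⟩ : M) : M ⧸ K.subgroupOf M), ?_⟩⟩).symm
      · rw [← QuotientGroup.out_eq' x, ← QuotientGroup.out_eq' y, QuotientGroup.eq, Subgroup.mem_subgroupOf]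
        exact (QuotientGroup.eq).1 (congrArg Subtype.val h)
      · refine Subtype.ext ?_
        have h := QuotientGroup.out_eq' ((⟨g, hg⟩ : M) : M ⧸ K.subgroupOf M)
        rw [QuotientGroup.eq, Subgroup.mem_subgroupOf] at h
        exact (QuotientGroup.eq).2 h
    rw [h1, Subgroup.relIndex_mul_index hKM, index_K]
  have hdvd : S.ncard ∣ 3510 := Dvd.intro M.index hcard
  have h0S : q₀ ∈ S := ⟨1, M.one_mem, rfl⟩
  by_cases s1 : q₁ ∈ S <;> by_cases s2 : q₂ ∈ S
  · right
    have hS' : S = Set.univ := Set.eq_univ_iff_forall.2 fun q => by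
      rcases hall q with rfl | h | h
      exacts [h0S, hsub _ s1 h, hsub _ s2 h]
    rw [hS', Nat.card_univ, show Nat.card (Spor.Fi22 ⧸ K) = 3510 from index_K] at hcard
    exact Subgroup.index_eq_one.1 (by omega)
  · exfalso
    have hS' : S = insert q₀ O₁ := by
      refine Set.Subset.antisymm (fun q hq => ?_) (Set.insert_subset h0S (hsub _ s1))
      rcases hall q with h | h | h
      exacts [Or.inl h, Or.inr h, absurd (hsub _ hq (MulAction.mem_orbit_symm.1 h)) s2]
    rw [hS', Set.ncard_insert_of_notMem n1, o1] at hdvd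
    norm_num at hdvd
  · exfalso
    have hS' : S = insert q₀ O₂ := by
      refine Set.Subset.antisymm (fun q hq => ?_) (Set.insert_subset h0S (hsub _ s2))
      rcases hall q with h | h | h
      exacts [Or.inl h, absurd (hsub _ hq (MulAction.mem_orbit_symm.1 h)) s1, Or.inr h]
    rw [hS', Set.ncard_insert_of_notMem n2, o2] at hdvd
    norm_num at hdvd
  · left
    refine le_antisymm (fun g hg => ?_) hKM
    rcases hall (g : Spor.Fi22 ⧸ K) with h | h | h
    · rw [QuotientGroup.eq] at h
      simpa using h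
    · exact absurd (hsub _ ⟨g, hg, rfl⟩ (MulAction.mem_orbit_symm.1 h)) s1
    · exact absurd (hsub _ ⟨g, hg, rfl⟩ (MulAction.mem_orbit_symm.1 h)) s2

/-- the word `ciadehfb` -/
def word13 : List ℕ := [2, 8, 0, 3, 4, 7, 5, 1]

/-- the word `ciadehfb` thirteen times -/
def word169 : List ℕ := (List.replicate 13 word13).flatten

theorem trace_word :
    ((List.range FiHat3510.data.n).all fun c => Nat.beq (FiHat3510.data.trace c word169) c) = true ∧
      Nat.beq (FiHat3510.data.trace 0 word13) 0 = false := by
  constructor <;> decide +kernel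

theorem act_prod (w : List ℕ) (c : Fin FiHat3510.data.n) :
    FiHat3510.data.trace c w = ((act (((w.map a).prod)⁻¹) c : Fin FiHat3510.data.n) : ℕ) :=
  trace_smul FiHat3510.valid fits c w

theorem order_thirteen : orderOf (word13.map a).prod = 13 := by
  have : Fact (Nat.Prime 13) := ⟨by norm_num⟩
  have hinj := card_and_faithful.2.1
  refine orderOf_eq_prime ?_ fun h => ?_
  · have h : (word169.map a).prod = 1 := by
      refine inv_eq_one.1 (hinj (Equiv.ext fun c => Fin.ext ?_))
      rw [← act_prod, map_one, Nat.eq_of_beq_eq_true (List.all_eq_true.1 trace_word.1 _ (List.mem_range.2 c.2))]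
      rfl
    rw [← h, word169, List.map_flatten, List.prod_flatten, List.map_map, List.map_replicate,
      List.prod_replicate]
    rfl
  · have h0 := act_prod word13 ⟨0, FiHat3510.valid.base.1⟩
    rw [h, inv_one, map_one] at h0
    have := trace_word.2
    rw [show FiHat3510.data.trace 0 word13 = 0 from h0] at this
    exact Bool.noConfusion this

theorem isSimple : IsSimpleGroup Spor.Fi22 := by
  have := finite_fi22
  obtain ⟨hcard, hinj, -⟩ := card_and_faithful
  haveI : Nontrivial Spor.Fi22 := Finite.one_lt_card_iff_nontrivial.1 (by omega)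
  refine ⟨fun N hN => ?_⟩
  have := hN
  rcases maximal (M := K ⊔ N) le_sup_left with h | h
  · left
    have hNK : N ≤ K := le_sup_right.trans h.le
    rw [eq_bot_iff]
    intro g hg
    obtain ⟨e, he⟩ := exists_presented_equiv FiHat3510.valid fits
    refine Subgroup.mem_bot.2 (hinj (Equiv.ext fun c => ?_))
    obtain ⟨q, rfl⟩ := e.surjective c
    rw [map_one, Equiv.Perm.one_apply, ← he]
    congr 1
    induction q using QuotientGroup.induction_on with
    | _ y =>
      rw [MulAction.Quotient.smul_coe, smul_eq_mul, QuotientGroup.eq]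
      have := hNK (hN.conj_mem g⁻¹ (inv_mem hg) y⁻¹)
      simpa [mul_assoc] using this
  · right
    have h13 : Fact (Nat.Prime 13) := ⟨by norm_num⟩
    have hrel : N.index * 3510 ∣ 64561751654400 := by
      have hN' : N.index = N.relIndex K := by
        rw [← Subgroup.relIndex_top_right (H := N), ← h, Subgroup.relIndex_sup_right]
      rw [← hcard, ← K.index_mul_card, index_K, Nat.mul_comm 3510 (Nat.card K), hN']
      exact Nat.mul_dvd_mul_right (Subgroup.relIndex_dvd_card N K) _
    have hx : (word13.map a).prod ∈ N := by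
      rw [← QuotientGroup.eq_one_iff]
      have h1 : orderOf (((word13.map a).prod : Spor.Fi22) : Spor.Fi22 ⧸ N) ∣ 13 :=
        (orderOf_map_dvd (QuotientGroup.mk' N) _).trans order_thirteen.dvd
      have h2 : orderOf (((word13.map a).prod : Spor.Fi22) : Spor.Fi22 ⧸ N) ∣ N.index := by
        rw [Subgroup.index]; exact orderOf_dvd_natCard _
      rcases (Nat.dvd_prime h13.out).1 h1 with h3 | h3
      · exact orderOf_eq_one_iff.1 h3
      · exfalso
        rw [h3] at h2
        have : 13 * 3510 ∣ 64561751654400 := (Nat.mul_dvd_mul_right h2 _).trans hrel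
        norm_num at this
    let b : ℕ → Spor.Fi22 ⧸ N := fun x => (a x : Spor.Fi22 ⧸ N)
    have hb : ∀ w : List ℕ, (w.map b).prod = (((w.map a).prod : Spor.Fi22) : Spor.Fi22 ⧸ N) := fun w => by
      rw [show (((w.map a).prod : Spor.Fi22) : Spor.Fi22 ⧸ N) = QuotientGroup.mk' N (w.map a).prod from rfl,
        map_list_prod, List.map_map]
      rfl
    have hr : ∀ w ∈ Fi22Collapse.cert.rels, (w.map b).prod = 1 := by
      intro w hw
      rw [hb]
      have hd : Fi22Collapse.cert.rels.all (fun w =>
        (relWords Spor.Fi22.edges Spor.Fi22.extra gens).contains w || (w == word13)) = true := by decide +kernel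
      have := List.all_eq_true.1 hd w hw
      simp only [Bool.or_eq_true, List.contains_iff_mem, beq_iff_eq] at this
      rcases this with hm | rfl
      · rw [relWord_one nodes hm]; rfl
      · exact (QuotientGroup.eq_one_iff _).2 hx
    obtain ⟨hf, hle⟩ := Cert.card_le (a := b) (C := Fi22Collapse.cert)
      (fun x => by
        show ((a x : Spor.Fi22) : Spor.Fi22 ⧸ N) * _ = _
        rw [← QuotientGroup.mk_mul, gen_inv nodes]; rfl)
      (by show ((a eqLetter : Spor.Fi22) : Spor.Fi22 ⧸ N) = _; rw [a, gen_eq nodes]; rfl)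
      Fi22Collapse.ok (⊥ : Subgroup (Spor.Fi22 ⧸ N)) ⊤ hr (fun w hw => absurd hw List.not_mem_nil) (by
        rw [← Subgroup.map_top_of_surjective _ (QuotientGroup.mk'_surjective N),
          ← CfsgLib.Recog.SporBound.closure_gen (extra := Spor.Fi22.extra) nodes, MonoidHom.map_closure]
        rw [Subgroup.closure_le]
        rintro _ ⟨_, ⟨x, rfl⟩, rfl⟩
        by_cases hx' : x < 9
        · exact Subgroup.subset_closure ⟨x, by
            rw [show Fi22Collapse.cert.kl = List.range 9 from rfl]; exact List.mem_range.2 hx', rfl⟩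
        · rw [show gen Spor.Fi22.edges Spor.Fi22.extra gens x = 1 by
            rw [gen, List.getElem?_eq_none (by simp [gens]; omega)]; rfl, map_one]
          exact one_mem _)
    refine Subgroup.index_eq_one.1 ?_
    rw [Subgroup.card_top, show Fi22Collapse.cert.n = 1 from rfl, Subgroup.card_bot] at hle
    have : 0 < Nat.card (Spor.Fi22 ⧸ N) := Nat.card_pos
    rw [Subgroup.index]; omega

theorem isFi22 : Cfsg.IsFi22 Spor.Fi22 := ⟨isSimple, card_and_faithful.1⟩

end CfsgLib.Recog.SporBound.Fi22Group
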