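import Cfsg.Agent.Lib.Recog.SporBound.Sound
import Cfsg.Agent.Lib.ThreeTrans.CosetIndex.Presented

set_option autoImplicit false

/-!
Certificates for presented groups on involutions (owner: lead).
-/

namespace CfsgLib.Recog.SporBound

open Cfsg
open CfsgLib.ThreeTrans.CosetIndex (eqLetter relWords letters hom_eq_prod gen)

section

variable {α : Type} [DecidableEq α] {edges : List (α × ℕ × α)} {extra : List (FreeGroup α)} {gens : List α}

/-- Every generator is a node and is listed. -/
structure Nodes (edges : List (α × ℕ × α)) (gens : List α) : Prop where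
  nodes : ∀ y : α, y ∈ Spor.coxNodes edges
  mem : ∀ y : α, y ∈ gens
  small : gens.length ≤ eqLetter

variable (hN : Nodes edges gens)
include hN

theorem gen_of (y : α) : gen edges extra gens (gens.idxOf y) = PresentedGroup.of y := by
  rw [gen, List.getElem?_eq_getElem (List.idxOf_lt_length_iff.2 (hN.mem y)), List.getElem_idxOf]
  rfl

theorem gen_inv (x : ℕ) : gen edges extra gens x * gen edges extra gens x = 1 := by
  unfold gen
  cases gens[x]? with
  | none => simp
  | some y =>
    have h := PresentedGroup.one_of_mem (rels := Spor.coxRelators edges ∪ {r | r ∈ extra})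
      (show (FreeGroup.of y * FreeGroup.of y) ^ Spor.coxLabel edges y y ∈ _ from
        Or.inl ⟨y, hN.nodes y, y, hN.nodes y, rfl⟩)
    rw [Spor.coxLabel, if_pos rfl, pow_one, map_mul] at h
    exact h

theorem gen_eq : gen edges extra gens eqLetter = 1 := by
  rw [gen, List.getElem?_eq_none hN.small]
  rfl

theorem mk_prod (r : FreeGroup α) :
    PresentedGroup.mk (Spor.coxRelators edges ∪ {r | r ∈ extra}) r =
      ((letters gens r).map (gen edges extra gens)).prod :=
  hom_eq_prod gens _ _ (fun y => (gen_of hN y).symm) (gen_inv hN) r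

theorem relWord_one {w : List ℕ} (hw : w ∈ relWords edges extra gens) :
    (w.map (gen edges extra gens)).prod = 1 := by
  obtain ⟨r, hr, rfl⟩ : ∃ r ∈ Spor.coxRelators edges ∪ {r | r ∈ extra}, letters gens r = w := by
    rw [relWords, List.mem_append] at hw
    rcases hw with hmem | hmem
    · obtain ⟨x, hx, hmem⟩ := List.mem_flatMap.1 hmem
      obtain ⟨y, hy, rfl⟩ := List.mem_map.1 hmem
      exact ⟨_, Or.inl ⟨x, hx, y, hy, rfl⟩, rfl⟩
    · obtain ⟨r, hr, rfl⟩ := List.mem_map.1 hmem
      exact ⟨r, Or.inr hr, rfl⟩
  rw [← mk_prod hN]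
  exact PresentedGroup.one_of_mem hr

/-- The relators of a certificate hold if they are among the listed relators or proved extra words. -/
theorem rels_one {C : Cert} {more : List (List ℕ)}
    (hmore : ∀ w ∈ more, (w.map (gen edges extra gens)).prod = 1)
    (h : C.rels.all (fun w => (relWords edges extra gens).contains w || more.contains w) = true) :
    ∀ w ∈ C.rels, (w.map (gen edges extra gens)).prod = 1 := by
  intro w hw
  have h' := List.all_eq_true.1 h w hw
  simp only [Bool.or_eq_true, List.contains_iff_mem] at h'
  rcases h' with h' | h'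
  · exact relWord_one hN h'
  · exact hmore w h'

theorem closure_gen : Subgroup.closure (Set.range (gen edges extra gens)) = ⊤ := by
  rw [eq_top_iff, ← PresentedGroup.closure_range_of, Subgroup.closure_le]
  rintro _ ⟨y, rfl⟩
  exact Subgroup.subset_closure ⟨_, gen_of hN y⟩

/-- The subgroup generated by some of the letters. -/
def letterSub (edges : List (α × ℕ × α)) (extra : List (FreeGroup α)) (gens : List α) (kl : List ℕ) :
    Subgroup (Spor.CoxPresented α edges extra) :=
  Subgroup.closure {g | ∃ x ∈ kl, g = gen edges extra gens x}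

theorem letterSub_range : letterSub edges extra gens (List.range gens.length) = ⊤ := by
  rw [eq_top_iff, ← PresentedGroup.closure_range_of, Subgroup.closure_le]
  rintro _ ⟨y, rfl⟩
  exact Subgroup.subset_closure
    ⟨_, List.mem_range.2 (List.idxOf_lt_length_iff.2 (hN.mem y)), (gen_of hN y).symm⟩

/-- One storey of a tower: the subgroup of the followed letters over the one of some of them. -/
theorem tower_step {C : Cert} (hC : C.OK) {m : ℕ} (H : Subgroup (Spor.CoxPresented α edges extra)) [Finite H]
    (hm : Nat.card H ≤ m) (hrel : ∀ w ∈ C.rels, (w.map (gen edges extra gens)).prod = 1)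
    (hsub : Cert.WordsIn (gen edges extra gens) H C.subs) :
    Finite (letterSub edges extra gens C.kl) ∧
      Nat.card (letterSub edges extra gens C.kl) ≤ C.n * m := by
  obtain ⟨h1, h2⟩ := Cert.card_le (gen_inv hN) (gen_eq hN) hC H (letterSub edges extra gens C.kl) hrel hsub le_rfl
  exact ⟨h1, h2.trans (Nat.mul_le_mul_left _ hm)⟩

omit hN in
theorem mem_letterSub {kl w : List ℕ} (h : ∀ x ∈ w, x ∈ kl) :
    (w.map (gen edges extra gens)).prod ∈ letterSub edges extra gens kl :=
  Subgroup.list_prod_mem _ fun g hg => by
    obtain ⟨x, hx, rfl⟩ := List.mem_map.1 hg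
    exact Subgroup.subset_closure ⟨x, h x hx, rfl⟩

omit hN in
theorem wordsIn_letterSub {kl : List ℕ} {L : List (List ℕ)} (h : L.all (fun w => w.all (kl.contains ·)) = true) :
    Cert.WordsIn (gen edges extra gens) (letterSub edges extra gens kl) L := fun w hw =>
  mem_letterSub fun x hx => List.contains_iff_mem.1 (List.all_eq_true.1 (List.all_eq_true.1 h w hw) x hx)

end

end CfsgLib.Recog.SporBound
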