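import Cfsg.Agent.Lib.Recog.SporBound.Presented
import Cfsg.Agent.Lib.Recog.SporBound.SuzA.Valid
import Cfsg.Agent.Lib.Recog.SporBound.SuzB.Valid
import Cfsg.Agent.Lib.Recog.SporBound.SuzC.Valid
import Cfsg.Agent.Lib.Recog.SporBound.SuzCollapse.Valid
import Cfsg.Agent.Lib.Recog.SporBound.SuzChain.Data
import Cfsg.Agent.S1680
import Cfsg.Prelude.Def_Sporadic

/-!
The presented group Suz has order 448345497600 and is simple (owner: helper13).
-/

set_option autoImplicit false

namespace CfsgLib.Recog.SporBound.SuzGroup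

open Cfsg CfsgLib.ThreeTrans.CosetIndex
open Cfsg.Agent.S1680 (gens words fits)

/-- the letters as elements of the presented group -/
abbrev a (x : ℕ) : Spor.Suz := gen Spor.Suz.edges Spor.Suz.extra gens x

theorem nodes : Nodes Spor.Suz.edges gens := ⟨fits.nodes, fits.mem, by decide⟩

/-- the subgroup of the first six generators -/
abbrev K : Subgroup Spor.Suz :=
  (Subgroup.closure {r | r ∈ words}).map
    (PresentedGroup.mk (Spor.coxRelators Spor.Suz.edges ∪ {r | r ∈ Spor.Suz.extra}))

/-- a subgroup generated by some of the letters -/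
abbrev L (kl : List ℕ) : Subgroup Spor.Suz := letterSub Spor.Suz.edges Spor.Suz.extra gens kl

theorem K_eq : K = L [0, 1, 2, 3, 4, 5] := by
  rw [K, map_closure_eq fits, L, letterSub]
  congr 1
  ext g
  rw [show Suz1782.data.subs = [[0], [1], [2], [3], [4], [5]] from rfl]
  simp

theorem layer {C : Cert} {kl : List ℕ} (hC : C.OK) (hkl : C.kl = kl)
    (hrels : C.rels.all (fun w => (relWords Spor.Suz.edges Spor.Suz.extra gens).contains w ||
      ([] : List (List ℕ)).contains w) = true)
    {H : Subgroup Spor.Suz} [Finite H] {m : ℕ} (hm : Nat.card H ≤ m) (hsub : Cert.WordsIn a H C.subs) :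
    Finite (L kl) ∧ Nat.card (L kl) ≤ C.n * m := by
  subst hkl
  exact tower_step nodes hC H hm (rels_one nodes (more := []) (fun _ h => absurd h List.not_mem_nil) hrels) hsub

theorem card_K_le : Finite K ∧ Nat.card K ≤ 251596800 := by
  obtain ⟨f1, h1⟩ := layer SuzA.ok (kl := [0, 1, 2, 3]) rfl (by decide +kernel) (H := ⊥) (m := 1)
    (by simp) (fun w hw => absurd hw List.not_mem_nil)
  have h1' : Nat.card (L [0, 1, 2, 3]) ≤ 2160 := h1.trans_eq (by rw [show SuzA.cert.n = 2160 from rfl])
  obtain ⟨f2, h2⟩ := layer SuzB.ok (kl := [0, 1, 2, 3, 4]) rfl (by decide +kernel) (H := L [0, 1, 2, 3]) h1'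
    (wordsIn_letterSub (by decide +kernel))
  have h2' : Nat.card (L [0, 1, 2, 3, 4]) ≤ 604800 := h2.trans_eq (by rw [show SuzB.cert.n = 280 from rfl])
  obtain ⟨f3, h3⟩ := layer SuzC.ok (kl := [0, 1, 2, 3, 4, 5]) rfl (by decide +kernel) (H := L [0, 1, 2, 3, 4]) h2'
    (wordsIn_letterSub (by decide +kernel))
  rw [K_eq]
  exact ⟨f3, h3.trans_eq (by rw [show SuzC.cert.n = 416 from rfl])⟩

theorem index_K : K.index = 1782 := presented_index Suz1782.valid fits

theorem finite_suz : Finite Spor.Suz := by
  have := card_K_le.1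
  haveI : Finite (Spor.Suz ⧸ K) := by
    obtain ⟨e, -⟩ := exists_presented_equiv Suz1782.valid fits
    exact Finite.of_equiv _ e.symm
  exact Finite.of_subgroup_quotient K

/-- the action on the rows of the table -/
noncomputable abbrev act : Spor.Suz →* Equiv.Perm (Fin Suz1782.data.n) := toPerm Suz1782.valid fits

theorem card_suz_and_faithful :
    Nat.card Spor.Suz = 448345497600 ∧ Function.Injective act ∧ Nat.card K = 251596800 := by
  have := finite_suz
  have hmul := K.index_mul_card
  rw [index_K] at hmul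
  have hle := card_K_le.2
  have hlow : 448345497600 ≤ Nat.card act.range := by
    rw [← SuzChain.total_eq]
    exact OrbitChain.total_le_range Suz1782.valid act (a := a) (toPerm_gen Suz1782.valid fits) SuzChain.chain_ok
  have hle' : Nat.card act.range ≤ Nat.card Spor.Suz :=
    Nat.card_le_card_of_surjective _ act.rangeRestrict_surjective
  have hcard : Nat.card Spor.Suz = 448345497600 := by omega
  refine ⟨hcard, ?_, by omega⟩
  have hb := (Nat.bijective_iff_surjective_and_card act.rangeRestrict).2
    ⟨act.rangeRestrict_surjective, le_antisymm (by omega) hle'⟩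
  exact fun x y h => hb.1 (Subtype.ext h)

/-- A subgroup above `K` is `K` or the whole group. -/
theorem maximal {M : Subgroup Spor.Suz} (hKM : K ≤ M) : M = K ∨ M = ⊤ := by
  classical
  have := finite_suz
  obtain ⟨e, he⟩ := exists_presented_equiv Suz1782.valid fits
  have o1 := (presented_orbit Suz1782.valid fits (c₀ := (⟨47, by decide⟩ : Fin Suz1782.data.n)) Suz1782.orb0 e he).2
  have o2 := (presented_orbit Suz1782.valid fits (c₀ := (⟨1, by decide⟩ : Fin Suz1782.data.n)) Suz1782.orb1 e he).2
  set q₁ := e.symm (⟨47, by decide⟩ : Fin Suz1782.data.n)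
  set q₂ := e.symm (⟨1, by decide⟩ : Fin Suz1782.data.n)
  set q₀ : Spor.Suz ⧸ K := ((1 : Spor.Suz) : Spor.Suz ⧸ K)
  set O₁ := MulAction.orbit K q₁
  set O₂ := MulAction.orbit K q₂
  have h0 : ∀ k : K, k • q₀ = q₀ := fun k => by
    show (((k : Spor.Suz) • (1 : Spor.Suz) : Spor.Suz) : Spor.Suz ⧸ K) = _
    rw [smul_eq_mul, mul_one, QuotientGroup.eq]
    simp
  have horb0 : MulAction.orbit K q₀ = {q₀} := by
    ext q
    simp only [MulAction.mem_orbit_iff, h0, Set.mem_singleton_iff]
    exact ⟨fun ⟨_, h⟩ => h.symm, fun h => ⟨1, h.symm⟩⟩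
  have n1 : q₀ ∉ O₁ := fun h => by
    have := congrArg Set.ncard (MulAction.orbit_eq_iff.2 h)
    rw [horb0, Set.ncard_singleton, o1] at this
    omega
  have n2 : q₀ ∉ O₂ := fun h => by
    have := congrArg Set.ncard (MulAction.orbit_eq_iff.2 h)
    rw [horb0, Set.ncard_singleton, o2] at this
    omega
  have hd : Disjoint O₁ O₂ := by
    refine (MulAction.orbit.eq_or_disjoint q₁ q₂).resolve_left fun h => ?_
    have := congrArg Set.ncard h
    rw [o1, o2] at this
    omega
  have hall : ∀ q, q = q₀ ∨ q ∈ O₁ ∨ q ∈ O₂ := by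
    intro q
    have hu : (insert q₀ (O₁ ∪ O₂)) = Set.univ := by
      refine Set.eq_of_subset_of_ncard_le (Set.subset_univ _) ?_
      rw [Set.ncard_univ, Set.ncard_insert_of_notMem (by simp [n1, n2]), Set.ncard_union_eq hd, o1, o2,
        show Nat.card (Spor.Suz ⧸ K) = 1782 from index_K]
    simpa using hu.ge (Set.mem_univ q)
  set S : Set (Spor.Suz ⧸ K) := (fun g : Spor.Suz => (g : Spor.Suz ⧸ K)) '' (M : Set Spor.Suz)
  have hS : ∀ q ∈ S, ∀ k : K, k • q ∈ S := by
    rintro _ ⟨g, hg, rfl⟩ k
    exact ⟨(k : Spor.Suz) * g, mul_mem (hKM k.2) hg, rfl⟩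
  have hsub : ∀ q ∈ S, MulAction.orbit K q ⊆ S := by
    rintro q hq _ ⟨k, rfl⟩
    exact hS q hq k
  have hcard : Nat.card S * M.index = 1782 := by
    have h1 : Nat.card S = K.relIndex M := by
      refine Nat.card_congr (Equiv.ofBijective
        (fun x : M ⧸ K.subgroupOf M => (⟨((Quotient.out x : M) : Spor.Suz), _, (Quotient.out x).2, rfl⟩ : S))
        ⟨fun x y h => ?_, fun ⟨_, g, hg, rfl⟩ => ⟨((⟨g, hg⟩ : M) : M ⧸ K.subgroupOf M), ?_⟩⟩).symm
      · rw [← QuotientGroup.out_eq' x, ← QuotientGroup.out_eq' y, QuotientGroup.eq, Subgroup.mem_subgroupOf]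
        exact (QuotientGroup.eq).1 (congrArg Subtype.val h)
      · refine Subtype.ext ?_
        have h := QuotientGroup.out_eq' ((⟨g, hg⟩ : M) : M ⧸ K.subgroupOf M)
        rw [QuotientGroup.eq, Subgroup.mem_subgroupOf] at h
        exact (QuotientGroup.eq).2 h
    rw [h1, Subgroup.relIndex_mul_index hKM, index_K]
  have hdvd : S.ncard ∣ 1782 := Dvd.intro M.index hcard
  have h0S : q₀ ∈ S := ⟨1, M.one_mem, rfl⟩
  by_cases s1 : q₁ ∈ S <;> by_cases s2 : q₂ ∈ S
  · right
    have hS' : S = Set.univ := Set.eq_univ_iff_forall.2 fun q => by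
      rcases hall q with rfl | h | h
      exacts [h0S, hsub _ s1 h, hsub _ s2 h]
    rw [hS', Nat.card_univ, show Nat.card (Spor.Suz ⧸ K) = 1782 from index_K] at hcard
    exact Subgroup.index_eq_one.1 (by omega)
  · exfalso
    have hS' : S = insert q₀ O₁ := by
      refine Set.Subset.antisymm (fun q hq => ?_) (Set.insert_subset h0S (hsub _ s1))
      rcases hall q with h | h | h
      exacts [Or.inl h, Or.inr h, absurd (hsub _ hq (MulAction.mem_orbit_symm.1 h)) s2]
    rw [hS', Set.ncard_insert_of_notMem n1, o1] at hdvd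
    norm_num at hdvd
  · exfalso
    have hS' : S = insert q₀ O₂ := by
      refine Set.Subset.antisymm (fun q hq => ?_) (Set.insert_subset h0S (hsub _ s2))
      rcases hall q with h | h | h
      exacts [Or.inl h, absurd (hsub _ hq (MulAction.mem_orbit_symm.1 h)) s1, Or.inr h]
    rw [hS', Set.ncard_insert_of_notMem n2, o2] at hdvd
    norm_num at hdvd
  · left
    refine le_antisymm (fun g hg => ?_) hKM
    rcases hall (g : Spor.Suz ⧸ K) with h | h | h
    · rw [QuotientGroup.eq] at h
      simpa using h
    · exact absurd (hsub _ ⟨g, hg, rfl⟩ (MulAction.mem_orbit_symm.1 h)) s1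
    · exact absurd (hsub _ ⟨g, hg, rfl⟩ (MulAction.mem_orbit_symm.1 h)) s2

/-- the word `bcdefg` -/
def word11 : List ℕ := [1, 2, 3, 4, 5, 6]

/-- the word `bcdefg` eleven times -/
def word121 : List ℕ := (List.replicate 11 word11).flatten

theorem trace_word :
    ((List.range Suz1782.data.n).all fun c => Nat.beq (Suz1782.data.trace c word121) c) = true ∧
      Nat.beq (Suz1782.data.trace 0 word11) 0 = false := by
  constructor <;> decide +kernel

theorem act_prod (w : List ℕ) (c : Fin Suz1782.data.n) :
    Suz1782.data.trace c w = ((act (((w.map a).prod)⁻¹) c : Fin Suz1782.data.n) : ℕ) :=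
  trace_smul Suz1782.valid fits c w

theorem order_eleven : orderOf (word11.map a).prod = 11 := by
  have : Fact (Nat.Prime 11) := ⟨by norm_num⟩
  have hinj := card_suz_and_faithful.2.1
  refine orderOf_eq_prime ?_ fun h => ?_
  · have h : (word121.map a).prod = 1 := by
      refine inv_eq_one.1 (hinj (Equiv.ext fun c => Fin.ext ?_))
      rw [← act_prod, map_one, Nat.eq_of_beq_eq_true (List.all_eq_true.1 trace_word.1 _ (List.mem_range.2 c.2))]
      rfl
    rw [← h, word121, List.map_flatten, List.prod_flatten, List.map_map, List.map_replicate,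
      List.prod_replicate]
    rfl
  · have h0 := act_prod word11 ⟨0, Suz1782.valid.base.1⟩
    rw [h, inv_one, map_one] at h0
    have := trace_word.2
    rw [show Suz1782.data.trace 0 word11 = 0 from h0] at this
    exact Bool.noConfusion this

theorem isSimple : IsSimpleGroup Spor.Suz := by
  have := finite_suz
  obtain ⟨hcard, hinj, -⟩ := card_suz_and_faithful
  haveI : Nontrivial Spor.Suz := Finite.one_lt_card_iff_nontrivial.1 (by omega)
  refine ⟨fun N hN => ?_⟩
  have := hN
  rcases maximal (M := K ⊔ N) le_sup_left with h | h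
  · left
    have hNK : N ≤ K := le_sup_right.trans h.le
    rw [eq_bot_iff]
    intro g hg
    obtain ⟨e, he⟩ := exists_presented_equiv Suz1782.valid fits
    refine Subgroup.mem_bot.2 (hinj (Equiv.ext fun c => ?_))
    obtain ⟨q, rfl⟩ := e.surjective c
    rw [map_one, Equiv.Perm.one_apply, ← he]
    congr 1
    induction q using QuotientGroup.induction_on with
    | _ y =>
      rw [MulAction.Quotient.smul_coe, smul_eq_mul, QuotientGroup.eq]
      have := hNK (hN.conj_mem g⁻¹ (inv_mem hg) y⁻¹)
      simpa [mul_assoc] using this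
  · right
    have h11 : Fact (Nat.Prime 11) := ⟨by norm_num⟩
    have hrel : N.index * 1782 ∣ 448345497600 := by
      have hN' : N.index = N.relIndex K := by
        rw [← Subgroup.relIndex_top_right (H := N), ← h, Subgroup.relIndex_sup_right]
      rw [← hcard, ← K.index_mul_card, index_K, Nat.mul_comm 1782 (Nat.card K), hN']
      exact Nat.mul_dvd_mul_right (Subgroup.relIndex_dvd_card N K) _
    have hx : (word11.map a).prod ∈ N := by
      rw [← QuotientGroup.eq_one_iff]
      have h1 : orderOf (((word11.map a).prod : Spor.Suz) : Spor.Suz ⧸ N) ∣ 11 :=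
        (orderOf_map_dvd (QuotientGroup.mk' N) _).trans order_eleven.dvd
      have h2 : orderOf (((word11.map a).prod : Spor.Suz) : Spor.Suz ⧸ N) ∣ N.index := by
        rw [Subgroup.index]; exact orderOf_dvd_natCard _
      rcases (Nat.dvd_prime h11.out).1 h1 with h3 | h3
      · exact orderOf_eq_one_iff.1 h3
      · exfalso
        rw [h3] at h2
        have : 11 * 1782 ∣ 448345497600 := (Nat.mul_dvd_mul_right h2 _).trans hrel
        norm_num at this
    let b : ℕ → Spor.Suz ⧸ N := fun x => (a x : Spor.Suz ⧸ N)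
    have hb : ∀ w : List ℕ, (w.map b).prod = (((w.map a).prod : Spor.Suz) : Spor.Suz ⧸ N) := fun w => by
      rw [show (((w.map a).prod : Spor.Suz) : Spor.Suz ⧸ N) = QuotientGroup.mk' N (w.map a).prod from rfl,
        map_list_prod, List.map_map]
      rfl
    have hr : ∀ w ∈ SuzCollapse.cert.rels, (w.map b).prod = 1 := by
      intro w hw
      rw [hb]
      have hd : SuzCollapse.cert.rels.all (fun w =>
        (relWords Spor.Suz.edges Spor.Suz.extra gens).contains w || (w == word11)) = true := by decide +kernel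
      have := List.all_eq_true.1 hd w hw
      simp only [Bool.or_eq_true, List.contains_iff_mem, beq_iff_eq] at this
      rcases this with hm | rfl
      · rw [relWord_one nodes hm]; rfl
      · exact (QuotientGroup.eq_one_iff _).2 hx
    obtain ⟨hf, hle⟩ := Cert.card_le (a := b) (C := SuzCollapse.cert)
      (fun x => by
        show ((a x : Spor.Suz) : Spor.Suz ⧸ N) * _ = _
        rw [← QuotientGroup.mk_mul, gen_inv nodes]; rfl)
      (by show ((a eqLetter : Spor.Suz) : Spor.Suz ⧸ N) = _; rw [a, gen_eq nodes]; rfl)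
      SuzCollapse.ok (⊥ : Subgroup (Spor.Suz ⧸ N)) ⊤ hr (fun w hw => absurd hw List.not_mem_nil) (by
        rw [← Subgroup.map_top_of_surjective _ (QuotientGroup.mk'_surjective N),
          ← CfsgLib.Recog.SporBound.closure_gen (extra := Spor.Suz.extra) nodes, MonoidHom.map_closure]
        rw [Subgroup.closure_le]
        rintro _ ⟨_, ⟨x, rfl⟩, rfl⟩
        by_cases hx' : x < 7
        · exact Subgroup.subset_closure ⟨x, by
            rw [show SuzCollapse.cert.kl = List.range 7 from rfl]; exact List.mem_range.2 hx', rfl⟩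
        · rw [show gen Spor.Suz.edges Spor.Suz.extra gens x = 1 by
            rw [gen, List.getElem?_eq_none (by simp [gens]; omega)]; rfl, map_one]
          exact one_mem _)
    refine Subgroup.index_eq_one.1 ?_
    rw [Subgroup.card_top, show SuzCollapse.cert.n = 1 from rfl, Subgroup.card_bot] at hle
    have : 0 < Nat.card (Spor.Suz ⧸ N) := Nat.card_pos
    rw [Subgroup.index]; omega

theorem isSuz : Cfsg.IsSuz Spor.Suz := ⟨isSimple, card_suz_and_faithful.1⟩

end CfsgLib.Recog.SporBound.SuzGroup
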