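import Cfsg.Agent.Lib.ThreeTrans.CosetIndex.Core

set_option autoImplicit false

/-!
Closure certificates bounding orbits on cosets (owner: lead). Facts are read as in
`CfsgLib.ThreeTrans.CosetIndex`; no table is needed, only that a set of nodes closes up.
-/

namespace CfsgLib.Recog.SporBound

open CfsgLib.ThreeTrans.CosetIndex (fld fsrc fdst flet eqLetter step1 forallFrom)

/-- Quaternary trees. -/
inductive Q (A : Type)
  | leaf (v : A)
  | node (a b c d : Q A)

/-- The leaf with a given index, read from the low pair of bits. -/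
noncomputable def Q.get {A : Type} (t : Q A) : ℕ → A :=
  Q.rec (motive := fun _ => ℕ → A) (fun v _ => v)
    (fun _ _ _ _ a b c d i =>
      cond (Nat.beq (Nat.land i 2) 0)
        (cond (Nat.beq (Nat.land i 1) 0) (a (Nat.shiftRight i 2)) (b (Nat.shiftRight i 2)))
        (cond (Nat.beq (Nat.land i 1) 0) (c (Nat.shiftRight i 2)) (d (Nat.shiftRight i 2)))) t

/-- A certificate: node and fact counts, facts (128 of 44 bits to a leaf), the nodes of the cosets
(128 of 20 bits to a leaf), derived steps and final chains in chunks of 64. -/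
structure Cert where
  /-- cosets -/
  n : ℕ
  /-- defining facts -/
  nd : ℕ
  /-- facts -/
  nf : ℕ
  /-- letters that are followed -/
  kl : List ℕ
  /-- facts -/
  facts : Q ℕ
  /-- node of each coset -/
  cn : Q ℕ
  /-- derivations -/
  steps : Q (List ℕ)
  /-- closing chains -/
  finals : Q (List ℕ)
  /-- relators -/
  rels : List (List ℕ)
  /-- subgroup words -/
  subs : List (List ℕ)

namespace Cert

variable (C : Cert)

/-- A fact. -/
noncomputable def fact (i : ℕ) : ℕ :=
  Nat.land (Nat.shiftRight (C.facts.get (Nat.shiftRight i 7)) (Nat.mul 44 (Nat.land i 127))) 17592186044415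

/-- The node of a coset. -/
noncomputable def nodeOf (c : ℕ) : ℕ := fld (C.cn.get (Nat.shiftRight c 7)) (Nat.land c 127)

/-- Relators and their reverses. -/
def allRels : List (List ℕ) := C.rels ++ C.rels.map List.reverse

/-- Following `k` items. -/
noncomputable def walk (lim p off : ℕ) (k : ℕ) (s : ℕ × List ℕ) : Option (ℕ × List ℕ) :=
  Nat.rec (motive := fun _ => Option (ℕ × List ℕ)) (some s)
    (fun j ih => Option.rec none
      (fun s' => cond (Nat.blt (fld p (off + j)) lim) (step1 (C.fact (fld p (off + j))) s') none) ih) k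

/-- A defining fact. -/
noncomputable def defOK (i : ℕ) : Bool :=
  Nat.beq (fdst (C.fact i)) (i + 1) && Nat.ble (fsrc (C.fact i)) i

/-- The word scanned by a step. -/
noncomputable def stepWord (r sh : ℕ) : List ℕ :=
  cond (Nat.blt r C.allRels.length) ((C.allRels.getD r []).drop sh ++ (C.allRels.getD r []).take sh)
    (C.subs.getD (r - C.allRels.length) [])

/-- A derived fact. -/
noncomputable def stepOK (i p : ℕ) : Bool :=
  let base := fld p 2
  let nf := fld p 3
  let w := C.stepWord (fld p 0) (fld p 1)
  (Nat.blt (fld p 0) C.allRels.length ||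
    (Nat.beq base 0 && Nat.blt (fld p 0 - C.allRels.length) C.subs.length)) &&
  Option.rec false (fun f => Option.rec false (fun b =>
      match b.2 with
      | [] => Nat.beq (flet (C.fact i)) eqLetter &&
          (Nat.beq (fsrc (C.fact i)) f.1 && Nat.beq (fdst (C.fact i)) b.1)
      | [x] => Nat.beq (flet (C.fact i)) x &&
          (Nat.beq (fsrc (C.fact i)) f.1 && Nat.beq (fdst (C.fact i)) b.1)
      | _ => false)
      (C.walk i p (5 + nf) (fld p 4) (base, f.2.reverse)))
    (C.walk i p 5 nf (base, w))

/-- Following a chain that must read a word and end at the node of a coset. -/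
noncomputable def endsAt (p s : ℕ) (w : List ℕ) : Bool :=
  Option.rec false (fun r => Nat.blt (fld p 0) C.n && (Nat.beq r.1 (C.nodeOf (fld p 0)) && r.2.isEmpty))
    (C.walk C.nf p 2 (fld p 1) (s, w))

/-- A final chain: coset `i / |kl|`, letter number `i % |kl|`. -/
noncomputable def finalOK (i p : ℕ) : Bool :=
  C.endsAt p (C.nodeOf (i / C.kl.length)) [C.kl.getD (i % C.kl.length) 0]

/-- Consecutive entries of a chunk. -/
noncomputable def allIdx (f : ℕ → ℕ → Bool) (L : List ℕ) (start : ℕ) : Bool :=
  List.rec (motive := fun _ => ℕ → Bool) (fun _ => true) (fun p _ ih i => f i p && ih (i + 1)) L start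

/-- Checking the chunks `lo, ..., lo + len - 1` of derivations. -/
noncomputable def stepsPart (lo len : ℕ) : Bool :=
  forallFrom (fun k => allIdx C.stepOK (C.steps.get k) (C.nd + 64 * k) &&
    (Nat.beq (C.steps.get k).length 64 || Nat.ble C.nf (C.nd + 64 * k + (C.steps.get k).length))) lo len

/-- Checking the chunks `lo, ..., lo + len - 1` of final chains. -/
noncomputable def finalsPart (lo len : ℕ) : Bool :=
  forallFrom (fun k => allIdx C.finalOK (C.finals.get k) (64 * k) &&
    (Nat.beq (C.finals.get k).length 64 ||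
      Nat.ble (C.n * C.kl.length) (64 * k + (C.finals.get k).length))) lo len

/-- Number of step chunks. -/
def stepChunks : ℕ := (C.nf - C.nd + 63) / 64

/-- Number of final chunks. -/
def finalChunks : ℕ := (C.n * C.kl.length + 63) / 64

/-- All checks. -/
structure OK : Prop where
  base : (Nat.blt 0 C.n && Nat.beq (C.nodeOf 0) 0 && Nat.ble C.nd C.nf) = true
  defs : forallFrom C.defOK 0 C.nd = true
  steps : C.stepsPart 0 C.stepChunks = true
  finals : C.finalsPart 0 C.finalChunks = true

end Cert

theorem forallFrom_add {f : ℕ → Bool} {s l₁ l₂ : ℕ} (h₁ : forallFrom f s l₁ = true)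
    (h₂ : forallFrom f (s + l₁) l₂ = true) : forallFrom f s (l₁ + l₂) = true := by
  induction l₂ with
  | zero => exact h₁
  | succ k ih =>
    have h' : (f (s + l₁ + k) && forallFrom f (s + l₁) k) = true := h₂
    rw [Bool.and_eq_true] at h'
    show (f (s + (l₁ + k)) && forallFrom f s (l₁ + k)) = true
    rw [Bool.and_eq_true, ← Nat.add_assoc]
    exact ⟨h'.1, ih h'.2⟩

theorem forallFrom_cat {f : ℕ → Bool} {s l₁ m l₂ l : ℕ} (h₁ : forallFrom f s l₁ = true)
    (h₂ : forallFrom f m l₂ = true) (hm : Nat.beq (s + l₁) m = true) (hl : Nat.beq (l₁ + l₂) l = true) :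
    forallFrom f s l = true := by
  rw [← Nat.eq_of_beq_eq_true hm] at h₂
  rw [← Nat.eq_of_beq_eq_true hl]
  exact forallFrom_add h₁ h₂

namespace Cert

variable {C : Cert}

theorem stepsPart_cat {s l₁ m l₂ l : ℕ} (h₁ : C.stepsPart s l₁ = true) (h₂ : C.stepsPart m l₂ = true)
    (hm : Nat.beq (s + l₁) m = true) (hl : Nat.beq (l₁ + l₂) l = true) : C.stepsPart s l = true :=
  forallFrom_cat h₁ h₂ hm hl

theorem finalsPart_cat {s l₁ m l₂ l : ℕ} (h₁ : C.finalsPart s l₁ = true) (h₂ : C.finalsPart m l₂ = true)
    (hm : Nat.beq (s + l₁) m = true) (hl : Nat.beq (l₁ + l₂) l = true) : C.finalsPart s l = true :=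
  forallFrom_cat h₁ h₂ hm hl

end Cert

end CfsgLib.Recog.SporBound
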