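import Cfsg.Agent.Lib.Recog.GTwoFour

/-!
Six involutions of `G₂(4)` satisfying the relators of Suz on `a, …, f`, and the root elements as words in
them (owner: helper13).
-/

set_option autoImplicit false

namespace CfsgLib.Recog.SporBound.SuzGTwo
open CfsgLib.Recog

/-- the six involutions as products of root elements -/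
def sixWords : List (List (Fin 12 × UnitalFour.R4)) :=
  [[(1, ⟨0, 1⟩), (10, ⟨0, 1⟩), (8, ⟨1, 0⟩), (6, ⟨1, 0⟩), (0, ⟨1, 0⟩), (6, ⟨1, 0⟩), (8, ⟨1, 0⟩), (10, ⟨0, 1⟩), (1, ⟨0, 1⟩)],
   [(0, ⟨1, 0⟩), (11, ⟨1, 0⟩), (0, ⟨1, 0⟩), (11, ⟨1, 0⟩), (0, ⟨1, 0⟩)],
   [(10, ⟨0, 1⟩), (4, ⟨0, 1⟩), (9, ⟨0, 1⟩), (0, ⟨1, 0⟩), (9, ⟨0, 1⟩), (4, ⟨0, 1⟩), (10, ⟨0, 1⟩)],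
   [(0, ⟨0, 1⟩), (9, ⟨0, 1⟩), (8, ⟨1, 0⟩), (7, ⟨1, 0⟩), (3, ⟨1, 0⟩), (2, ⟨1, 0⟩), (3, ⟨1, 0⟩), (7, ⟨1, 0⟩), (8, ⟨1, 0⟩), (9, ⟨0, 1⟩), (0, ⟨0, 1⟩)],
   [(1, ⟨0, 1⟩), (9, ⟨1, 1⟩), (4, ⟨0, 1⟩), (10, ⟨1, 1⟩), (2, ⟨1, 0⟩), (10, ⟨1, 1⟩), (4, ⟨0, 1⟩), (9, ⟨1, 1⟩), (1, ⟨0, 1⟩)],
   [(10, ⟨1, 0⟩), (8, ⟨1, 0⟩), (6, ⟨0, 1⟩), (0, ⟨1, 0⟩), (6, ⟨0, 1⟩), (8, ⟨1, 0⟩), (10, ⟨1, 0⟩)]]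

/-- words for the root elements: root, then parameter -/
def rootWords : List (List (List ℕ)) :=
  [[[], [5, 1, 0, 1, 2, 3, 2, 1, 0, 4, 3, 2, 5, 1, 0, 1, 5, 2, 3, 4, 0, 1, 2, 3, 2, 1, 0, 1, 5], [3, 5, 1, 0, 1, 2, 3, 2, 4, 3, 5, 1, 0, 2, 1, 5, 3, 4, 1, 2, 3, 2, 1, 0, 1, 5, 3], [5, 1, 0, 1, 2, 3, 2, 1, 0, 1, 4, 3, 2, 3, 4, 1, 0, 1, 2, 3, 2, 1, 0, 1, 5]],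
   [[], [5, 1, 0, 1, 2, 1, 3, 2, 4, 3, 2, 1, 5, 1, 2, 3, 4, 2, 3, 1, 2, 1, 0, 1, 5], [5, 1, 0, 1, 2, 1, 3, 2, 4, 3, 2, 1, 0, 1, 2, 3, 4, 2, 3, 1, 2, 1, 0, 1, 5], [5, 1, 0, 1, 2, 1, 3, 2, 4, 3, 2, 1, 0, 5, 1, 2, 3, 4, 2, 3, 1, 2, 1, 0, 1, 5]],
   [[], [2, 4, 3, 2, 1, 0, 3, 2, 1, 0, 4, 3, 2, 1, 5, 3, 0, 1, 2, 3, 4, 3, 0, 1, 2, 3, 0, 1], [1, 0, 2, 1, 3, 2, 1, 3, 2, 4, 3, 2, 1, 5, 2, 3, 1, 2, 3, 4, 1, 2, 3, 1, 2, 3, 1, 2, 0, 1], [3, 2, 1, 3, 2, 3, 2, 1, 4, 3, 2, 3, 2, 1, 5, 4, 0, 1, 2, 3, 2, 3, 4, 1, 2, 3, 2, 3, 1, 2, 3]],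
   [[], [0, 3, 2, 1, 4, 3, 2, 3, 5, 1, 0, 1, 2, 3, 4, 2, 3, 2, 1, 0, 1, 5, 3, 2, 3, 4, 1, 2, 3, 0], [1, 3, 2, 4, 3, 2, 3, 4, 5, 1, 0, 2, 3, 2, 1, 5, 4, 3, 1, 2, 3, 4, 2, 3, 1], [0, 3, 2, 1, 0, 4, 5, 1, 2, 3, 2, 4, 3, 2, 1, 5, 4, 0, 1, 2, 3, 0]],
   [[], [4, 5, 1, 0, 1, 2, 3, 2, 5, 1, 0, 2, 1, 3, 2, 3, 4, 1, 0], [2, 1, 0, 1, 5, 1, 0, 2, 3, 2, 1, 4, 3, 2, 3, 0, 1, 2, 3, 4, 2, 3, 1, 2, 0, 1, 5, 1, 0, 1, 2], [2, 3, 2, 4, 3, 2, 1, 3, 2, 3, 4, 5, 1, 2, 3, 0, 1, 2, 0, 1, 5, 4, 3, 2, 3, 1, 2, 3, 4, 2, 3, 2]],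
   [[], [3, 2, 1, 4, 3, 2, 1, 3, 2, 4, 3], [3, 2, 4, 3, 2, 5, 1, 0, 1, 2, 3, 2, 4, 5, 3], [3, 2, 4, 3, 2, 1, 5, 1, 0, 1, 2, 3, 4, 5, 2, 3]],
   [[], [2, 1, 3, 2, 1, 0, 1, 0, 3, 2, 1, 4, 3, 5, 2, 3, 4, 1, 2, 3, 0, 1, 0, 1, 2, 3, 1, 2, 1], [0, 1, 5, 1, 2, 3, 2, 4, 3, 2, 1, 3, 2, 3, 4, 2, 3, 2, 1, 0, 1, 5, 2, 3, 4, 2, 3, 2, 0, 1, 0], [2, 3, 4, 3, 2, 3, 2, 5, 1, 2, 3, 2, 4, 3, 2, 1, 0, 1, 2, 3, 4, 2, 3, 2, 1, 0, 1, 5, 0]],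
   [[], [2, 1, 0, 1, 2, 5, 1, 0, 2, 3, 2, 4, 3, 2, 1, 5, 2, 1, 0, 1, 2], [0, 1, 3, 2, 5, 1, 0, 2, 1, 3, 2, 3, 4, 5, 3, 2, 3, 1, 2, 1, 0, 1, 5, 2, 3, 1, 0], [1, 0, 1, 0, 3, 2, 5, 1, 2, 3, 2, 4, 3, 2, 1, 5, 4, 3, 2, 3, 0, 1, 0]],
   [[], [0, 3, 2, 1, 5, 1, 0, 2, 1, 3, 2, 3, 2, 4, 3, 2, 3, 1, 2, 0, 1, 5, 1, 2, 3, 0], [0, 3, 2, 1, 0, 3, 5, 1, 2, 3, 2, 4, 3, 2, 1, 5, 3, 0, 1, 2, 3, 0], [0, 1, 3, 2, 1, 3, 5, 1, 0, 1, 2, 3, 2, 4, 3, 2, 1, 0, 1, 5, 3, 1, 2, 3, 1, 0]],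
   [[], [0, 2, 1, 5, 1, 0, 2, 1, 0, 3, 2, 1, 3, 5, 4, 2, 3, 1, 2, 3, 0, 1, 2, 0, 1, 5, 1, 2, 0], [0, 2, 1, 0, 3, 2, 5, 1, 2, 3, 2, 4, 3, 2, 1, 5, 1, 2, 3, 0, 1, 2, 0], [0, 1, 0, 3, 2, 1, 0, 3, 2, 1, 0, 3, 4, 5, 1, 2, 3, 2, 1, 5, 4, 0, 1, 2, 3, 2, 0, 1, 0]],
   [[], [3, 2, 1, 0, 1, 2, 3], [3, 2, 1, 0, 5, 1, 2, 3], [3, 2, 1, 5, 1, 2, 3]],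
   [[], [1], [5, 1, 0, 1, 5], [1, 5, 1, 0, 1, 5]]]

/-- the six involutions as matrices -/
def sixMats : List (Matrix (Fin 6) (Fin 6) UnitalFour.R4) :=
  [!![⟨0, 1⟩, ⟨0, 1⟩, ⟨0, 0⟩, ⟨1, 1⟩, ⟨0, 1⟩, ⟨0, 0⟩; ⟨0, 1⟩, ⟨1, 0⟩, ⟨0, 1⟩, ⟨0, 1⟩, ⟨0, 0⟩, ⟨0, 1⟩; ⟨0, 0⟩, ⟨0, 1⟩, ⟨0, 1⟩, ⟨0, 0⟩, ⟨0, 1⟩, ⟨1, 1⟩; ⟨1, 1⟩, ⟨0, 1⟩, ⟨0, 0⟩, ⟨0, 1⟩, ⟨0, 1⟩, ⟨0, 0⟩; ⟨0, 1⟩, ⟨0, 0⟩, ⟨0, 1⟩, ⟨0, 1⟩, ⟨1, 0⟩, ⟨0, 1⟩; ⟨0, 0⟩, ⟨0, 1⟩, ⟨1, 1⟩, ⟨0, 0⟩, ⟨0, 1⟩, ⟨0, 1⟩],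
   !![⟨1, 0⟩, ⟨0, 0⟩, ⟨0, 0⟩, ⟨0, 0⟩, ⟨0, 0⟩, ⟨0, 0⟩; ⟨0, 0⟩, ⟨1, 0⟩, ⟨0, 0⟩, ⟨0, 0⟩, ⟨0, 0⟩, ⟨0, 0⟩; ⟨0, 0⟩, ⟨0, 0⟩, ⟨1, 0⟩, ⟨0, 0⟩, ⟨0, 0⟩, ⟨0, 0⟩; ⟨0, 0⟩, ⟨0, 0⟩, ⟨0, 0⟩, ⟨1, 0⟩, ⟨0, 0⟩, ⟨0, 0⟩; ⟨1, 0⟩, ⟨0, 0⟩, ⟨0, 0⟩, ⟨0, 0⟩, ⟨1, 0⟩, ⟨0, 0⟩; ⟨0, 0⟩, ⟨1, 0⟩, ⟨0, 0⟩, ⟨0, 0⟩, ⟨0, 0⟩, ⟨1, 0⟩],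
   !![⟨0, 1⟩, ⟨0, 1⟩, ⟨0, 1⟩, ⟨1, 0⟩, ⟨1, 0⟩, ⟨0, 0⟩; ⟨1, 1⟩, ⟨0, 0⟩, ⟨0, 1⟩, ⟨0, 0⟩, ⟨0, 0⟩, ⟨1, 0⟩; ⟨1, 1⟩, ⟨1, 0⟩, ⟨1, 1⟩, ⟨0, 0⟩, ⟨0, 0⟩, ⟨1, 0⟩; ⟨0, 0⟩, ⟨1, 0⟩, ⟨0, 0⟩, ⟨1, 1⟩, ⟨0, 1⟩, ⟨0, 1⟩; ⟨0, 1⟩, ⟨0, 0⟩, ⟨1, 0⟩, ⟨1, 0⟩, ⟨0, 0⟩, ⟨0, 1⟩; ⟨0, 0⟩, ⟨0, 1⟩, ⟨0, 0⟩, ⟨1, 1⟩, ⟨1, 1⟩, ⟨0, 1⟩],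
   !![⟨0, 1⟩, ⟨1, 0⟩, ⟨0, 0⟩, ⟨0, 0⟩, ⟨0, 0⟩, ⟨0, 0⟩; ⟨0, 1⟩, ⟨0, 1⟩, ⟨0, 0⟩, ⟨0, 0⟩, ⟨0, 0⟩, ⟨0, 0⟩; ⟨1, 1⟩, ⟨1, 1⟩, ⟨1, 1⟩, ⟨1, 0⟩, ⟨0, 0⟩, ⟨0, 0⟩; ⟨0, 1⟩, ⟨0, 0⟩, ⟨1, 1⟩, ⟨1, 1⟩, ⟨0, 0⟩, ⟨0, 0⟩; ⟨0, 0⟩, ⟨0, 1⟩, ⟨0, 0⟩, ⟨1, 1⟩, ⟨0, 1⟩, ⟨1, 0⟩; ⟨0, 1⟩, ⟨0, 0⟩, ⟨0, 1⟩, ⟨1, 1⟩, ⟨0, 1⟩, ⟨0, 1⟩],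
   !![⟨1, 1⟩, ⟨1, 0⟩, ⟨0, 0⟩, ⟨0, 0⟩, ⟨0, 0⟩, ⟨0, 0⟩; ⟨1, 1⟩, ⟨1, 1⟩, ⟨0, 0⟩, ⟨0, 0⟩, ⟨0, 0⟩, ⟨0, 0⟩; ⟨1, 0⟩, ⟨1, 1⟩, ⟨0, 1⟩, ⟨1, 0⟩, ⟨0, 0⟩, ⟨0, 0⟩; ⟨1, 1⟩, ⟨0, 1⟩, ⟨0, 1⟩, ⟨0, 1⟩, ⟨0, 0⟩, ⟨0, 0⟩; ⟨1, 1⟩, ⟨1, 0⟩, ⟨0, 1⟩, ⟨1, 1⟩, ⟨1, 1⟩, ⟨1, 0⟩; ⟨1, 1⟩, ⟨1, 1⟩, ⟨1, 1⟩, ⟨1, 0⟩, ⟨1, 1⟩, ⟨1, 1⟩],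
   !![⟨1, 1⟩, ⟨1, 0⟩, ⟨0, 0⟩, ⟨0, 1⟩, ⟨1, 0⟩, ⟨0, 0⟩; ⟨1, 0⟩, ⟨1, 0⟩, ⟨1, 0⟩, ⟨1, 0⟩, ⟨0, 0⟩, ⟨1, 0⟩; ⟨0, 0⟩, ⟨1, 0⟩, ⟨1, 1⟩, ⟨0, 0⟩, ⟨1, 0⟩, ⟨0, 1⟩; ⟨0, 1⟩, ⟨1, 0⟩, ⟨0, 0⟩, ⟨1, 1⟩, ⟨1, 0⟩, ⟨0, 0⟩; ⟨1, 0⟩, ⟨0, 0⟩, ⟨1, 0⟩, ⟨1, 0⟩, ⟨1, 0⟩, ⟨1, 0⟩; ⟨0, 0⟩, ⟨1, 0⟩, ⟨0, 1⟩, ⟨0, 0⟩, ⟨1, 0⟩, ⟨1, 1⟩]]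

end CfsgLib.Recog.SporBound.SuzGTwo
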