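import Cfsg.Agent.Lib.Recog.SporBound.SuzGroup
import Cfsg.Agent.Lib.Recog.SporBound.SuzGTwoData
import Cfsg.Agent.Lib.Recog.GTwoFourModule
import Cfsg.Agent.S1059

/-!
The subgroup on the first six generators of Suz is `G₂(4)` (owner: helper13).
-/

set_option autoImplicit false
set_option Elab.async false

namespace CfsgLib.Recog.SporBound.SuzGTwo

open CfsgLib.ThreeTrans.CosetIndex (eqLetter)
open CfsgLib.Recog

/-- a letter in the free group -/
def lett (x : ℕ) : FreeGroup (Fin 6) := if h : x < 6 then FreeGroup.of ⟨x, h⟩ else 1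

/-- the relators -/
def rels : Set (FreeGroup (Fin 6)) := {r | ∃ w ∈ SuzC.cert.rels, r = (w.map lett).prod}

/-- the presented group on six generators -/
abbrev P : Type := PresentedGroup rels

/-- the letters -/
def aP (x : ℕ) : P := PresentedGroup.mk rels (lett x)

theorem rel_one {w : List ℕ} (h : w ∈ SuzC.cert.rels) : (w.map aP).prod = 1 := by
  rw [show aP = PresentedGroup.mk rels ∘ lett from rfl, ← List.map_map, ← map_list_prod]
  exact PresentedGroup.one_of_mem ⟨w, h, rfl⟩

theorem sq_check : ∀ x < 6, [x, x] ∈ SuzC.cert.rels := by decide +kernel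

theorem aP_sq (x : ℕ) : aP x * aP x = 1 := by
  by_cases h : x < 6
  · simpa using rel_one (sq_check x h)
  · simp [aP, lett, h]

theorem aP_eq : aP eqLetter = 1 := by simp [aP, lett, eqLetter]

/-- the subgroup of some letters -/
def sub (kl : List ℕ) : Subgroup P := Subgroup.closure {g | ∃ x ∈ kl, g = aP x}

theorem card_P : Finite P ∧ Nat.card P ≤ 251596800 := by
  have step : ∀ (C : Cert) (kl : List ℕ), C.OK → C.kl = kl →
      (C.rels.all fun w => SuzC.cert.rels.contains w) = true → ∀ (H : Subgroup P) [Finite H] (m : ℕ),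
      Nat.card H ≤ m → Cert.WordsIn aP H C.subs → Finite (sub kl) ∧ Nat.card (sub kl) ≤ C.n * m := by
    intro C kl hC hkl hr H _ m hm hsub
    subst hkl
    obtain ⟨h1, h2⟩ := Cert.card_le aP_sq aP_eq hC H (sub C.kl)
      (fun w hw => rel_one (List.contains_iff_mem.1 (List.all_eq_true.1 hr w hw))) hsub le_rfl
    exact ⟨h1, h2.trans (Nat.mul_le_mul_left _ hm)⟩
  have words : ∀ (kl : List ℕ) (W : List (List ℕ)), (W.all fun w => w.all (kl.contains ·)) = true →
      Cert.WordsIn aP (sub kl) W := by
    intro kl W h w hw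
    refine Subgroup.list_prod_mem _ fun g hg => ?_
    obtain ⟨x, hx, rfl⟩ := List.mem_map.1 hg
    exact Subgroup.subset_closure
      ⟨x, List.contains_iff_mem.1 (List.all_eq_true.1 (List.all_eq_true.1 h w hw) x hx), rfl⟩
  obtain ⟨f1, h1⟩ := step SuzA.cert [0, 1, 2, 3] SuzA.ok rfl (by decide +kernel) ⊥ 1 (by simp)
    (fun w hw => absurd hw List.not_mem_nil)
  obtain ⟨f2, h2⟩ := step SuzB.cert [0, 1, 2, 3, 4] SuzB.ok rfl (by decide +kernel) (sub [0, 1, 2, 3]) 2160
    (h1.trans_eq (by rw [show SuzA.cert.n = 2160 from rfl])) (words _ _ (by decide +kernel))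
  obtain ⟨f3, h3⟩ := step SuzC.cert [0, 1, 2, 3, 4, 5] SuzC.ok rfl (by decide +kernel) (sub [0, 1, 2, 3, 4]) 604800
    (h2.trans_eq (by rw [show SuzB.cert.n = 280 from rfl])) (words _ _ (by decide +kernel))
  have htop : sub [0, 1, 2, 3, 4, 5] = ⊤ := by
    rw [eq_top_iff, ← PresentedGroup.closure_range_of, Subgroup.closure_le]
    rintro _ ⟨y, rfl⟩
    refine Subgroup.subset_closure ⟨y.1, ?_, ?_⟩
    · fin_cases y <;> simp
    · simp [aP, lett, PresentedGroup.of]
  rw [htop] at f3 h3
  exact ⟨Finite.of_equiv _ Subgroup.topEquiv.toEquiv, by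
    rw [← Nat.card_congr Subgroup.topEquiv.toEquiv]
    exact h3.trans_eq (by rw [show SuzC.cert.n = 416 from rfl])⟩

theorem letters_small : (SuzC.cert.rels.all fun w => w.all fun x => Nat.blt x 6) = true := by decide +kernel

theorem exists_hom {M : Type*} [Group M] (b : ℕ → M) (hb : ∀ w ∈ SuzC.cert.rels, (w.map b).prod = 1) :
    ∃ φ : P →* M, ∀ x < 6, φ (aP x) = b x := by
  refine ⟨PresentedGroup.toGroup (f := fun i : Fin 6 => b i.1) ?_, fun x hx => ?_⟩
  · rintro _ ⟨w, hw, rfl⟩
    rw [map_list_prod, List.map_map, ← hb w hw]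
    refine congrArg List.prod (List.map_congr_left fun x hx => ?_)
    have := List.all_eq_true.1 (List.all_eq_true.1 letters_small w hw) x hx
    simp only [Nat.blt_eq] at this
    simp [lett, this]
  · simp only [aP, lett, dif_pos hx]
    exact PresentedGroup.toGroup.of _

theorem suz_rels_check : (SuzC.cert.rels.all fun w =>
    (CfsgLib.ThreeTrans.CosetIndex.relWords Cfsg.Spor.Suz.edges Cfsg.Spor.Suz.extra
      Cfsg.Agent.S1680.gens).contains w) = true := by decide +kernel

theorem equiv_K : Nonempty (P ≃* SuzGroup.K) := by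
  obtain ⟨φ, hφ⟩ := exists_hom SuzGroup.a fun w hw =>
    relWord_one SuzGroup.nodes (List.contains_iff_mem.1 (List.all_eq_true.1 suz_rels_check w hw))
  have := card_P.1
  have hr : φ.range = SuzGroup.K := by
    rw [SuzGroup.K_eq, MonoidHom.range_eq_map, ← PresentedGroup.closure_range_of, MonoidHom.map_closure,
      SuzGroup.L, letterSub]
    congr 1
    ext g
    simp only [Set.mem_image, Set.mem_range, Set.mem_ofPred_eq, exists_exists_eq_and]
    have hy : ∀ y : Fin 6, φ (PresentedGroup.of y) = SuzGroup.a y.1 := fun y => by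
      rw [← hφ y.1 y.2]; simp [aP, lett, PresentedGroup.of]
    constructor
    · rintro ⟨y, rfl⟩
      exact ⟨y.1, by fin_cases y <;> simp, hy y⟩
    · rintro ⟨x, hx, rfl⟩
      refine ⟨⟨x, ?_⟩, hy _⟩
      simp only [List.mem_cons, List.not_mem_nil, or_false] at hx
      omega
  refine ⟨(MonoidHom.ofInjective (f := φ) ?_).trans (MulEquiv.subgroupCongr hr)⟩
  have hb := (Nat.bijective_iff_surjective_and_card φ.rangeRestrict).2
    ⟨φ.rangeRestrict_surjective, le_antisymm (by
      rw [hr, SuzGroup.card_suz_and_faithful.2.2]; exact card_P.2)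
      (Nat.card_le_card_of_surjective _ φ.rangeRestrict_surjective)⟩
  exact fun x y h => hb.1 (Subtype.ext h)

/-- the matrices of the six involutions -/
def mat6 (x : ℕ) : Matrix (Fin 6) (Fin 6) UnitalFour.R4 := sixMats.getD x 1

theorem mat6_word (x : ℕ) : GTwoFour.wordMat (sixWords.getD x []) = mat6 x := by
  by_cases h : x < 6
  · revert x
    decide +kernel
  · have h1 : sixWords.length ≤ x := by simp [sixWords]; omega
    have h2 : sixMats.length ≤ x := by simp [sixMats]; omega
    rw [mat6, List.getD_eq_default _ _ h1, List.getD_eq_default _ _ h2]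
    rfl

theorem mat_rels : (SuzC.cert.rels.all fun w => (w.map mat6).prod == 1) = true := by decide +kernel

/-- the word of a root element -/
def rootWord (r : Fin 12) (a : UnitalFour.R4) : List ℕ :=
  (rootWords.getD r.1 []).getD (a.re.val + 2 * a.im.val) []

/-- the check of one root subgroup -/
def rootOK (r : Fin 12) : Bool := UnitalFour.elts4.all fun a =>
    ((rootWord r a).map mat6).prod == GTwoFour.x6 r a && (rootWord r a).all (fun x => Nat.blt x 6)

theorem root_check_0 : rootOK 0 = true := by decide +kernel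

theorem root_check_1 : rootOK 1 = true := by decide +kernel

theorem root_check_2 : rootOK 2 = true := by decide +kernel

theorem root_check_3 : rootOK 3 = true := by decide +kernel

theorem root_check_4 : rootOK 4 = true := by decide +kernel

theorem root_check_5 : rootOK 5 = true := by decide +kernel

theorem root_check_6 : rootOK 6 = true := by decide +kernel

theorem root_check_7 : rootOK 7 = true := by decide +kernel

theorem root_check_8 : rootOK 8 = true := by decide +kernel

theorem root_check_9 : rootOK 9 = true := by decide +kernel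

theorem root_check_10 : rootOK 10 = true := by decide +kernel

theorem root_check_11 : rootOK 11 = true := by decide +kernel

theorem rootOK_all : ∀ r : Fin 12, rootOK r = true
  | 0 => root_check_0
  | 1 => root_check_1
  | 2 => root_check_2
  | 3 => root_check_3
  | 4 => root_check_4
  | 5 => root_check_5
  | 6 => root_check_6
  | 7 => root_check_7
  | 8 => root_check_8
  | 9 => root_check_9
  | 10 => root_check_10
  | 11 => root_check_11

theorem root_check (r : Fin 12) : (UnitalFour.elts4.all fun a =>
    ((rootWord r a).map mat6).prod == GTwoFour.x6 r a && (rootWord r a).all (fun x => Nat.blt x 6)) = true :=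
  rootOK_all r

theorem equiv_group {F : Type*} [Field F] [Fintype F] (hF : Fintype.card F = 4) :
    Nonempty (P ≃* ↥(Cfsg.Lie.chevG2.group F)) := by
  obtain ⟨f, ρ, X, hf, hρ, hX, hgen⟩ := GTwoFour.exists_module hF
  have hmap : Function.Injective (f.mapMatrix : Matrix (Fin 6) (Fin 6) UnitalFour.R4 → _) :=
    fun A B h => Matrix.map_injective hf h
  let b : ℕ → ↥(Cfsg.Lie.chevG2.group F) := fun x => ((sixWords.getD x []).map fun e => X e.1 e.2).prod
  have hb : ∀ x, (ρ (b x) : Matrix (Fin 6) (Fin 6) F) = f.mapMatrix (mat6 x) := fun x => by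
    rw [← mat6_word]
    simp only [b]
    induction sixWords.getD x [] with
    | nil => simp [GTwoFour.wordMat]
    | cons e l ih =>
      simp only [GTwoFour.wordMat, List.map_cons, List.prod_cons, map_mul, Units.val_mul] at ih ⊢
      rw [hX, ih]
  have hw : ∀ w : List ℕ, (ρ (w.map b).prod : Matrix (Fin 6) (Fin 6) F) = f.mapMatrix (w.map mat6).prod :=
    fun w => by
      induction w with
      | nil => simp
      | cons x l ih => simp only [List.map_cons, List.prod_cons, map_mul, Units.val_mul, hb, ih]
  obtain ⟨φ, hφ⟩ := exists_hom b fun w hw' => hρ (Units.ext (by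
    rw [hw, beq_iff_eq.1 (List.all_eq_true.1 mat_rels w hw'), map_one, map_one, Units.val_one]))
  have hsurj : Function.Surjective φ := by
    rw [← MonoidHom.range_eq_top, eq_top_iff, ← hgen, Subgroup.closure_le]
    rintro _ ⟨r, a, rfl⟩
    have h := List.all_eq_true.1 (root_check r) a (GTwoFour.r4_mem a)
    simp only [Bool.and_eq_true, beq_iff_eq, List.all_eq_true, Nat.blt_eq] at h
    refine ⟨((rootWord r a).map aP).prod, hρ (Units.ext ?_)⟩
    rw [map_list_prod φ, List.map_map, List.map_congr_left (f := ⇑φ ∘ aP) (g := b) fun x hx => hφ x (h.2 x hx), hw,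
      h.1, hX]
  have := card_P.1
  exact ⟨MulEquiv.ofBijective φ ((Nat.bijective_iff_surjective_and_card φ).2 ⟨hsurj,
    le_antisymm (card_P.2.trans_eq (by rw [Cfsg.Agent.S1059.result hF]; norm_num))
      (Nat.card_le_card_of_surjective φ hsurj)⟩)⟩

end CfsgLib.Recog.SporBound.SuzGTwo
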