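import Mathlib

set_option autoImplicit false

/-!
A bound for a group of symmetries of a finite table by counting patterns along a base (owner: helper24).

The points are coded by numbers from a list; `cj` is a binary operation, `tu` a unary one and `inv` an invariant
of the group. Along a list of steps new points are derived from the ones known so far; at a new base point the
candidates are the points with the same pattern relative to some of the known ones.
-/

namespace CfsgLib.Recog.SporBound.PatternBound

/-- A step: a new base point with the columns to compare, an image under the unary map, or a product. -/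
inductive Step where
  /-- a base point, the columns compared, the number of candidates -/
  | base (u : ℕ) (cols : List ℕ) (c : ℕ)
  /-- the image of a known point -/
  | tu (i : ℕ)
  /-- the product of two known points -/
  | cj (i j : ℕ)

variable (cjN : ℕ → ℕ → ℕ) (tuN : ℕ → ℕ) (relB : ℕ → ℕ → ℕ) (invB : ℕ → ℕ)

/-- The points known after some steps. -/
def known : List Step → List ℕ → List ℕ
  | [], kn => kn
  | .base u _ _ :: st, kn => known st (kn ++ [u])
  | .tu i :: st, kn => known st (kn ++ [tuN (kn.getD i 0)])
  | .cj i j :: st, kn => known st (kn ++ [cjN (kn.getD i 0) (kn.getD j 0)])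

/-- The product of the candidate numbers. -/
def total : List Step → ℕ
  | [] => 1
  | .base _ _ c :: st => c * total st
  | .tu _ :: st => total st
  | .cj _ _ :: st => total st

/-- The point `w` has the pattern of `u`. -/
def sameB (kn cols : List ℕ) (u w : ℕ) : Bool :=
  (invB w).beq (invB u) && cols.all fun i => (relB (kn.getD i 0) w).beq (relB (kn.getD i 0) u)

/-- The check of the steps over the list of points. -/
def stepsOK (L : List ℕ) : List Step → List ℕ → Bool
  | [], _ => true
  | .base u cols c :: st, kn =>
      (cols.all fun i => Nat.blt i kn.length) && L.contains u &&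
        Nat.ble (L.countP (sameB relB invB kn cols u)) c && stepsOK L st (kn ++ [u])
  | .tu i :: st, kn => Nat.blt i kn.length && stepsOK L st (kn ++ [tuN (kn.getD i 0)])
  | .cj i j :: st, kn =>
      Nat.blt i kn.length && Nat.blt j kn.length && stepsOK L st (kn ++ [cjN (kn.getD i 0) (kn.getD j 0)])

variable {H X : Type*} [Group H] [MulAction H X] (code : X → ℕ)

/-- The points of the action are coded and the operations are respected. -/
structure Compat (L : List ℕ) : Prop where
  inj : Function.Injective code
  mem : ∀ x, code x ∈ L
  surj : ∀ c ∈ L, ∃ x, code x = c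
  cj : ∀ x y : X, ∃ w, code w = cjN (code x) (code y) ∧ ∀ h : H, code (h • w) = cjN (code (h • x)) (code (h • y))
  tu : ∀ x : X, ∃ w, code w = tuN (code x) ∧ ∀ h : H, code (h • w) = tuN (code (h • x))
  rel : ∀ (h : H) (x y : X), relB (code (h • x)) (code (h • y)) = relB (code x) (code y)
  inv : ∀ (h : H) (x : X), invB (code (h • x)) = invB (code x)

/-- The stabiliser of the coded points. -/
def fixing (kn : List ℕ) : Subgroup H where
  carrier := {h | ∀ x : X, code x ∈ kn → h • x = x}
  one_mem' x _ := one_smul H x
  mul_mem' {g g'} hg hg' x hx := by rw [mul_smul, hg' x hx, hg x hx]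
  inv_mem' {g} hg x hx := by
    conv_lhs => rw [← hg x hx]
    exact inv_smul_smul g x

variable {cjN tuN relB invB code} {L : List ℕ}

theorem fixing_getD {kn : List ℕ} (hkn : ∀ c ∈ kn, c ∈ L)
    (C : Compat (H := H) cjN tuN relB invB code L) {i : ℕ} (hi : i < kn.length) :
    ∃ x : X, code x = kn.getD i 0 ∧ ∀ h ∈ fixing (H := H) code kn, h • x = x := by
  have hm : kn.getD i 0 ∈ kn := by rw [List.getD_eq_getElem _ _ hi]; exact List.getElem_mem hi
  obtain ⟨x, hx⟩ := C.surj _ (hkn _ hm)
  exact ⟨x, hx, fun h hh => hh x (hx ▸ hm)⟩

theorem bound [Finite H] (C : Compat (H := H) cjN tuN relB invB code L) : ∀ (st : List Step) (kn : List ℕ),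
    (∀ c ∈ kn, c ∈ L) → stepsOK cjN tuN relB invB L st kn = true →
    fixing (H := H) code (known cjN tuN st kn) = ⊥ → Nat.card (fixing (H := H) code kn) ≤ total st
  | [], kn, _, _, hlast => by
    rw [show known cjN tuN [] kn = kn from rfl] at hlast
    rw [hlast, Subgroup.card_bot]
    exact le_rfl
  | .tu i :: st, kn, hkn, hok, hlast => by
    simp only [stepsOK, Bool.and_eq_true, Nat.blt_eq] at hok
    obtain ⟨x, hx, hfix⟩ := fixing_getD hkn C hok.1
    obtain ⟨w, hw, hmap⟩ := C.tu x
    rw [hx] at hw
    have hkn' : ∀ c ∈ kn ++ [tuN (kn.getD i 0)], c ∈ L := fun c hc => by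
      rcases List.mem_append.1 hc with h | h
      exacts [hkn c h, List.mem_singleton.1 h ▸ hw ▸ C.mem w]
    refine le_trans (Subgroup.card_le_of_le ?_) (bound C st _ hkn' hok.2 hlast)
    intro h hh y hy
    rcases List.mem_append.1 hy with hy | hy
    · exact hh y hy
    · obtain rfl : y = w := C.inj ((List.mem_singleton.1 hy).trans hw.symm)
      exact C.inj ((hmap h).trans (by rw [hfix h hh, hx, hw]))
  | .cj i j :: st, kn, hkn, hok, hlast => by
    simp only [stepsOK, Bool.and_eq_true, Nat.blt_eq] at hok
    obtain ⟨x, hx, hfix⟩ := fixing_getD hkn C hok.1.1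
    obtain ⟨y, hy, hfiy⟩ := fixing_getD hkn C hok.1.2
    obtain ⟨w, hw, hmap⟩ := C.cj x y
    rw [hx, hy] at hw
    have hkn' : ∀ c ∈ kn ++ [cjN (kn.getD i 0) (kn.getD j 0)], c ∈ L := fun c hc => by
      rcases List.mem_append.1 hc with h | h
      exacts [hkn c h, List.mem_singleton.1 h ▸ hw ▸ C.mem w]
    refine le_trans (Subgroup.card_le_of_le ?_) (bound C st _ hkn' hok.2 hlast)
    intro h hh v hv
    rcases List.mem_append.1 hv with hv | hv
    · exact hh v hv
    · obtain rfl : v = w := C.inj ((List.mem_singleton.1 hv).trans hw.symm)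
      exact C.inj ((hmap h).trans (by rw [hfix h hh, hfiy h hh, hx, hy, hw]))
  | .base u cols c :: st, kn, hkn, hok, hlast => by
    classical
    simp only [stepsOK, Bool.and_eq_true, Nat.ble_eq] at hok
    obtain ⟨⟨⟨hcols, hu⟩, hcount⟩, hrest⟩ := hok
    obtain ⟨x, hx⟩ := C.surj u (List.contains_iff_mem.1 hu)
    have hkn' : ∀ d ∈ kn ++ [u], d ∈ L := fun d hd => by
      rcases List.mem_append.1 hd with h | h
      exacts [hkn d h, List.mem_singleton.1 h ▸ hx ▸ C.mem x]
    have ih := bound C st _ hkn' hrest hlast
    set S := fixing (H := H) code kn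
    have hos := MulAction.index_stabilizer S x
    have hstab : Nat.card (MulAction.stabilizer S x) ≤ Nat.card (fixing (H := H) code (kn ++ [u])) :=
      Nat.card_le_card_of_injective
        (fun g => (⟨((g : S) : H), fun v hv => by
          rcases List.mem_append.1 hv with hv | hv
          · exact (g : S).2 v hv
          · obtain rfl : v = x := C.inj ((List.mem_singleton.1 hv).trans hx.symm)
            exact g.2⟩ : fixing (H := H) code (kn ++ [u])))
        fun g g' e => Subtype.ext (Subtype.ext (congrArg (fun z : fixing (H := H) code (kn ++ [u]) => (z : H)) e))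
    have hsame : ∀ g : S, sameB relB invB kn cols u (code ((g : H) • x)) = true := by
      intro g
      simp only [sameB, Bool.and_eq_true, List.all_eq_true, Nat.beq_eq]
      refine ⟨by rw [C.inv, hx], fun i hi => ?_⟩
      have hlt := List.all_eq_true.1 hcols i hi
      rw [Nat.blt_eq] at hlt
      obtain ⟨y, hy, hfix⟩ := fixing_getD hkn C hlt
      rw [← hy, ← hx, ← C.rel (g : H) y x, hfix g g.2]
    have horb : (MulAction.orbit S x).ncard ≤ c := by
      refine le_trans ?_ hcount
      rw [List.countP_eq_length_filter]
      refine le_trans ?_ (List.toFinset_card_le _)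
      rw [← Set.ncard_coe_finset, ← Set.ncard_image_of_injective _ C.inj]
      refine Set.ncard_le_ncard ?_ (Finset.finite_toSet _)
      rintro _ ⟨_, ⟨g, rfl⟩, rfl⟩
      exact List.mem_toFinset.2 (List.mem_filter.2 ⟨C.mem _, hsame g⟩)
    calc Nat.card S = (MulAction.stabilizer S x).index * Nat.card (MulAction.stabilizer S x) :=
          (Subgroup.index_mul_card _).symm
      _ ≤ c * total st := Nat.mul_le_mul (hos ▸ horb) (hstab.trans ih)
      _ = _ := rfl

theorem card_le [Finite H] (C : Compat (H := H) cjN tuN relB invB code L) {st : List Step}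
    (hok : stepsOK cjN tuN relB invB L st [] = true)
    (hlast : fixing (H := H) code (known cjN tuN st []) = ⊥) : Nat.card H ≤ total st := by
  have h := bound C st [] (fun c hc => absurd hc List.not_mem_nil) hok hlast
  have e : fixing (H := H) code ([] : List ℕ) = ⊤ :=
    eq_top_iff.2 fun g _ x hx => absurd hx List.not_mem_nil
  rwa [e, Subgroup.card_top] at h

end CfsgLib.Recog.SporBound.PatternBound
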