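import Cfsg.Agent.Lib.ThreeTrans.CosetIndex.Core

/-!
# Certificates for central extensions read off a coset table

Lifts of seven generators send a representative of a coset to the representative of the image, times a central
value, times an element of a complement.  A checked gauge writes each central value in eleven unknowns, and
closed traces of relators give relations between the unknowns.
-/

set_option autoImplicit false

namespace CfsgLib.Recog.SporBound.Cocycle

open CfsgLib.ThreeTrans.CosetIndex (forallFrom forallFrom_elim)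

/-- The data of a certificate. -/
structure Cert where
  /-- cosets -/
  n : ℕ
  /-- exponent -/
  m : ℕ
  /-- the table -/
  tab : ℕ → ℕ → ℕ
  /-- a word to each coset -/
  word : ℕ → List ℕ
  /-- the coordinates of an edge -/
  val : ℕ → ℕ → ℕ
  /-- rank, relator, position and base of a derived edge -/
  step : ℕ → ℕ
  /-- the free edges -/
  free : List (ℕ × ℕ)
  /-- the unknown of a relator -/
  slot : List ℕ
  /-- the relators -/
  rels : List (List ℕ)

namespace Cert

variable (C : Cert)

/-- The number of an edge. -/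
def edge (c x : ℕ) : ℕ := Nat.add (Nat.mul c 7) x

/-- The rank of an edge. -/
noncomputable def rank (c x : ℕ) : ℕ := Nat.land (C.step (edge c x)) 65535

/-- The coordinates of a relator value. -/
noncomputable def rval (r j : ℕ) : ℕ := cond (Nat.beq (C.slot.getD r 11) j) 1 0

/-- The end of a trace. -/
noncomputable def trace (w : List ℕ) (c : ℕ) : ℕ :=
  List.rec (motive := fun _ => ℕ → ℕ) (fun c => c) (fun x _ ih c => ih (C.tab c x)) w c

/-- A coordinate summed along a trace. -/
noncomputable def sum (j : ℕ) (w : List ℕ) (c : ℕ) : ℕ :=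
  List.rec (motive := fun _ => ℕ → ℕ) (fun _ => 0)
    (fun x _ ih c => Nat.add (C.val (edge c x) j) (ih (C.tab c x))) w c

/-- All edges of a trace are proper and of rank below `k`. -/
noncomputable def below (k : ℕ) (w : List ℕ) (c : ℕ) : Bool :=
  List.rec (motive := fun _ => ℕ → Bool) (fun _ => true)
    (fun x _ ih c => Nat.blt x 7 && Nat.blt c C.n && Nat.blt (C.rank c x) k && ih (C.tab c x)) w c

/-- An edge is settled by the gauge or by an earlier trace. -/
noncomputable def edgeOK (c x : ℕ) : Bool :=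
  cond (Nat.beq (C.rank c x) 0)
    (((decide (C.word (C.tab c x) = x :: C.word c) ||
        (Nat.beq c 0 && Nat.blt x 6 && Nat.beq (C.tab c x) 0)) &&
        forallFrom (fun j => Nat.beq (C.val (edge c x) j) 0) 0 11) ||
      (Nat.blt (C.free.idxOf (c, x)) 3 && Nat.blt (C.free.idxOf (c, x)) C.free.length &&
        forallFrom (fun j => Nat.beq (C.val (edge c x) j)
          (cond (Nat.beq j (Nat.add 8 (C.free.idxOf (c, x)))) 1 0)) 0 11))
    (let s := C.step (edge c x)
     let r := Nat.land (Nat.shiftRight s 16) 63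
     let p := Nat.land (Nat.shiftRight s 22) 127
     let b := Nat.shiftRight s 29
     let w := C.rels.getD r []
     let u := w.take p
     let u' := w.drop (p + 1)
     Nat.blt r C.rels.length && Nat.blt p w.length && Nat.beq (w.getD p 7) x &&
       Nat.beq (C.trace u b) c && Nat.beq (C.trace u' (C.tab c x)) b &&
       C.below (C.rank c x) u b && C.below (C.rank c x) u' (C.tab c x) &&
       forallFrom (fun j => Nat.beq
         (Nat.mod (Nat.add (Nat.add (C.sum j u b) (C.val (edge c x) j)) (C.sum j u' (C.tab c x))) C.m)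
         (Nat.mod (C.rval r j) C.m)) 0 11)

/-- All edges from an interval of cosets. -/
noncomputable def edgesOK (lo len : ℕ) : Bool := forallFrom (fun c => forallFrom (C.edgeOK c) 0 7) lo len

/-- A combination of closed traces gives a multiple of one unknown. -/
noncomputable def combOK (L : List (ℕ × ℕ × ℕ)) (i a : ℕ) : Bool :=
  (L.all fun e => Nat.blt e.1 C.rels.length && C.below 65536 (C.rels.getD e.1 []) e.2.1 &&
      Nat.beq (C.trace (C.rels.getD e.1 []) e.2.1) e.2.1) &&
    forallFrom (fun j => Nat.beq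
      (Nat.mod (Nat.add (cond (Nat.beq j i) a 0)
        (List.sum (L.map fun e => Nat.mul e.2.2 (C.sum j (C.rels.getD e.1 []) e.2.1)))) C.m)
      (Nat.mod (List.sum (L.map fun e => Nat.mul e.2.2 (C.rval e.1 j))) C.m)) 0 11

end Cert

/-! ### meaning -/

theorem beq_if (j i a : ℕ) : cond (Nat.beq j i) a 0 = if j = i then a else 0 := by
  by_cases h : j = i
  · subst h; rw [if_pos rfl, show Nat.beq j j = true from Nat.beq_refl j]; rfl
  · rw [if_neg h, Bool.eq_false_iff.2 fun q => h (Nat.eq_of_beq_eq_true q)]; rfl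

/-- One edge from two traces and a relator. -/
theorem edge_alg {Γ : Type*} [Group Γ] {A B T Rb Rc Rd U V U' l₁ l₂ : Γ} (hU : ∀ g : Γ, Commute g U)
    (hV : ∀ g : Γ, Commute g V) (hU' : ∀ g : Γ, Commute g U') (e1 : A * Rb = Rc * U * l₁)
    (e2 : B * Rd = Rb * U' * l₂) (h : B * T * A = U * V * U') : T * Rc = Rd * V * (l₂⁻¹ * l₁⁻¹) := by
  have hW : ∀ g : Γ, Commute g (U * V * U') := fun g => ((hU g).mul_right (hV g)).mul_right (hU' g)
  have hRc : Rc = A * Rb * l₁⁻¹ * U⁻¹ := by rw [e1]; group
  have hT : T = B⁻¹ * (U * V * U') * A⁻¹ := by rw [← h]; group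
  have hB : B⁻¹ * Rb = Rd * l₂⁻¹ * U'⁻¹ := by
    have : Rb = B * Rd * l₂⁻¹ * U'⁻¹ := by rw [e2]; group
    rw [this]; group
  have hC : U'⁻¹ * (U * V * U') * U⁻¹ = V := by
    rw [((hW U'⁻¹)).eq, mul_assoc (U * V), mul_inv_cancel, mul_one, ← (hV U).symm.eq, mul_inv_cancel_right]
  calc T * Rc = B⁻¹ * (U * V * U') * Rb * l₁⁻¹ * U⁻¹ := by rw [hT, hRc]; group
    _ = B⁻¹ * (Rb * l₁⁻¹ * (U * V * U')) * U⁻¹ := by rw [(hW (Rb * l₁⁻¹)).eq]; group
    _ = (B⁻¹ * Rb) * l₁⁻¹ * (U * V * U') * U⁻¹ := by group
    _ = Rd * l₂⁻¹ * (U'⁻¹ * l₁⁻¹) * (U * V * U') * U⁻¹ := by rw [hB]; group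
    _ = Rd * l₂⁻¹ * (l₁⁻¹ * U'⁻¹) * (U * V * U') * U⁻¹ := by rw [((hU' l₁⁻¹).inv_right).eq]
    _ = Rd * (l₂⁻¹ * l₁⁻¹) * (U'⁻¹ * (U * V * U') * U⁻¹) := by group
    _ = Rd * V * (l₂⁻¹ * l₁⁻¹) := by rw [hC, mul_assoc, (hV (l₂⁻¹ * l₁⁻¹)).eq, ← mul_assoc]

section

variable {Γ : Type*} [Group Γ] (v : ℕ → Γ)

/-- The element with given coordinates. -/
def ev (f : ℕ → ℕ) : Γ := ((List.range 11).map fun j => v j ^ f j).prod

variable {v}

theorem commute_prod {γ : Γ} (h : ∀ j, Commute γ (v j)) (f : ℕ → ℕ) :
    ∀ l : List ℕ, Commute γ ((l.map fun j => v j ^ f j).prod)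
  | [] => Commute.one_right γ
  | i :: l => by
    rw [List.map_cons, List.prod_cons]
    exact ((h i).pow_right _).mul_right (commute_prod h f l)

theorem ev_comm (hc : ∀ j γ, Commute γ (v j)) (f : ℕ → ℕ) (γ : Γ) : Commute γ (ev v f) :=
  commute_prod (fun j => hc j γ) f _

theorem ev_add (hc : ∀ j γ, Commute γ (v j)) (f g : ℕ → ℕ) : ev v (fun j => f j + g j) = ev v f * ev v g := by
  unfold ev
  induction List.range 11 with
  | nil => simp
  | cons i l ih =>
    simp only [List.map_cons, List.prod_cons]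
    rw [ih, pow_add]
    exact Commute.mul_mul_mul_comm (commute_prod (fun j => hc j _) f l) _ _

theorem ev_congr {m : ℕ} (hm : ∀ j, v j ^ m = 1) {f g : ℕ → ℕ} (h : ∀ j < 11, f j % m = g j % m) :
    ev v f = ev v g := by
  unfold ev
  refine congrArg List.prod (List.map_congr_left fun j hj => ?_)
  rw [List.mem_range] at hj
  rw [← Nat.mod_add_div (f j) m, ← Nat.mod_add_div (g j) m, h j hj, pow_add, pow_add, pow_mul, pow_mul, hm,
    one_pow, one_pow]

theorem ev_zero {f : ℕ → ℕ} (h : ∀ j < 11, f j = 0) : ev v f = 1 := by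
  unfold ev
  refine List.prod_eq_one fun z hz => ?_
  obtain ⟨j, hj, rfl⟩ := List.mem_map.1 hz
  rw [h j (List.mem_range.1 hj), pow_zero]

theorem ev_single {f : ℕ → ℕ} {i a : ℕ} (hi : i < 11) (h : ∀ j < 11, f j = if j = i then a else 0) :
    ev v f = v i ^ a := by
  have key : ∀ n, n ≤ 11 → ((List.range n).map fun j => v j ^ f j).prod = if i < n then v i ^ a else 1 := by
    intro n
    induction n with
    | zero => intro _; simp
    | succ n ih =>
      intro hn
      rw [List.range_succ, List.map_append, List.prod_append, ih (by omega), List.map_singleton, List.prod_singleton,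
        h n (by omega)]
      rcases lt_trichotomy i n with q | q | q
      · rw [if_pos q, if_neg (by omega), if_pos (by omega), pow_zero, mul_one]
      · subst q; rw [if_neg (lt_irrefl _), if_pos rfl, if_pos (by omega), one_mul]
      · rw [if_neg (by omega), if_neg (by omega), if_neg (by omega), pow_zero, mul_one]
  exact (key 11 le_rfl).trans (if_pos hi)

end

/-- Lifts of the generators fitting a certificate. -/
structure Fit (C : Cert) {Γ : Type*} [Group Γ] (Z L : Subgroup Γ) (t v : ℕ → Γ) : Prop where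
  central : ∀ z ∈ Z, ∀ γ : Γ, Commute γ z
  mem : ∀ j, v j ∈ Z
  exponent : ∀ j, v j ^ C.m = 1
  free : ∀ z ∈ Z, z ∈ L → z = 1
  low : ∀ x < 6, t x ∈ L
  base : C.word 0 = []
  rel : ∀ r < C.rels.length, ((C.rels.getD r []).reverse.map t).prod = ev v (C.rval r)
  var : ∀ i < 3, ∀ c x, C.free[i]? = some (c, x) → ∃ l ∈ L,
    t x * ((C.word c).map t).prod = ((C.word (C.tab c x)).map t).prod * v (8 + i) * l

namespace Fit

variable {C : Cert} {Γ : Type*} [Group Γ] {Z L : Subgroup Γ} {t v : ℕ → Γ} (F : Fit C Z L t v)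
include F

theorem vcomm : ∀ (j : ℕ) (γ : Γ), Commute γ (v j) := fun j γ => F.central _ (F.mem j) γ

theorem ev_mem (f : ℕ → ℕ) : ev v f ∈ Z := by
  refine list_prod_mem fun z hz => ?_
  obtain ⟨j, -, rfl⟩ := List.mem_map.1 hz
  exact pow_mem (F.mem j) _

omit F in
/-- An edge is right. -/
def Good (C : Cert) {Γ : Type*} [Group Γ] (L : Subgroup Γ) (t v : ℕ → Γ) (c x : ℕ) : Prop :=
  ∃ l ∈ L, t x * ((C.word c).map t).prod = ((C.word (C.tab c x)).map t).prod * ev v (C.val (Cert.edge c x)) * l

theorem trace_eq {k : ℕ} (h : ∀ c < C.n, ∀ x < 7, C.rank c x < k → Good C L t v c x) :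
    ∀ (w : List ℕ) (c : ℕ), C.below k w c = true → ∃ l ∈ L, (w.reverse.map t).prod * ((C.word c).map t).prod =
      ((C.word (C.trace w c)).map t).prod * ev v (fun j => C.sum j w c) * l := by
  intro w
  induction w with
  | nil =>
    intro c _
    refine ⟨1, one_mem L, ?_⟩
    rw [show ev v (fun j => C.sum j [] c) = 1 from ev_zero (fun j _ => rfl), mul_one, mul_one, List.reverse_nil,
      List.map_nil, List.prod_nil, one_mul]
    rfl
  | cons x w ih =>
    intro c hb
    change (Nat.blt x 7 && Nat.blt c C.n && Nat.blt (C.rank c x) k && C.below k w (C.tab c x)) = true at hb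
    simp only [Bool.and_eq_true, Nat.blt_eq] at hb
    obtain ⟨⟨⟨hx, hc⟩, hr⟩, hb⟩ := hb
    obtain ⟨l, hl, e⟩ := h c hc x hx hr
    obtain ⟨l', hl', e'⟩ := ih _ hb
    refine ⟨l' * l, mul_mem hl' hl, ?_⟩
    rw [List.reverse_cons, List.map_append, List.prod_append, List.map_singleton, List.prod_singleton, mul_assoc, e,
      ← mul_assoc, ← mul_assoc, e']
    show _ = ((C.word (C.trace w (C.tab c x))).map t).prod *
      ev v (fun j => C.val (Cert.edge c x) j + C.sum j w (C.tab c x)) * _
    rw [ev_add F.vcomm]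
    have h1 : l' * ev v (C.val (Cert.edge c x)) = ev v (C.val (Cert.edge c x)) * l' :=
      (ev_comm F.vcomm _ l').eq
    simp only [mul_assoc]
    rw [← mul_assoc l' (ev v (C.val (Cert.edge c x))), h1, mul_assoc,
      ← mul_assoc (ev v (fun j => C.sum j w (C.tab c x))), (ev_comm F.vcomm _ (ev v fun j => C.sum j w (C.tab c x))).eq,
      mul_assoc]

theorem good (hall : ∀ c, c < C.n → ∀ x < 7, C.edgeOK c x = true) :
    ∀ c < C.n, ∀ x < 7, Good C L t v c x := by
  suffices ∀ k, ∀ c < C.n, ∀ x < 7, C.rank c x < k → Good C L t v c x from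
    fun c hc x hx => this _ c hc x hx (Nat.lt_succ_self _)
  intro k
  induction k with
  | zero => intro c _ x _ h; exact absurd h (Nat.not_lt_zero _)
  | succ k ih =>
    intro c hc x hx hk
    rcases Nat.lt_succ_iff_lt_or_eq.1 hk with h' | rfl
    · exact ih c hc x hx h'
    have hok := hall c hc x hx
    unfold Cert.edgeOK at hok
    by_cases h0 : C.rank c x = 0
    · rw [h0, show Nat.beq 0 0 = true from rfl, cond_true, Bool.or_eq_true] at hok
      rcases hok with hok | hok
      · rw [Bool.and_eq_true, Bool.or_eq_true] at hok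
        have hz : ev v (C.val (Cert.edge c x)) = 1 := ev_zero fun j hj =>
          Nat.eq_of_beq_eq_true (forallFrom_elim hok.2 (Nat.zero_le j) (by omega))
        unfold Good
        rw [hz]
        rcases hok.1 with e | e
        · exact ⟨1, one_mem L, by rw [of_decide_eq_true e, List.map_cons, List.prod_cons, mul_one, mul_one]⟩
        · simp only [Bool.and_eq_true, Nat.beq_eq, Nat.blt_eq] at e
          obtain ⟨⟨rfl, hx6⟩, e⟩ := e
          exact ⟨t x, F.low x hx6, by rw [e, F.base, List.map_nil, List.prod_nil, mul_one, one_mul, one_mul]⟩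
      · rw [Bool.and_eq_true, Bool.and_eq_true, Nat.blt_eq, Nat.blt_eq] at hok
        have hi : C.free.idxOf (c, x) < C.free.length := hok.1.2
        obtain ⟨l, hl, e⟩ := F.var _ hok.1.1 c x (by rw [List.getElem?_eq_getElem hi, List.getElem_idxOf])
        refine ⟨l, hl, ?_⟩
        have h3 := hok.1.1
        rw [e, ev_single (i := 8 + C.free.idxOf (c, x)) (a := 1) (by omega) (fun j hj => ?_), pow_one]
        rw [Nat.eq_of_beq_eq_true (forallFrom_elim hok.2 (Nat.zero_le j) (by omega))]
        exact beq_if _ _ _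
    · rw [Bool.eq_false_iff.2 fun q => h0 (Nat.eq_of_beq_eq_true q), cond_false] at hok
      simp only [Bool.and_eq_true, Nat.blt_eq, Nat.beq_eq] at hok
      obtain ⟨⟨⟨⟨⟨⟨⟨hr, hp⟩, hwx⟩, hu⟩, hu'⟩, hb⟩, hb'⟩, hsum⟩ := hok
      set r := Nat.land (Nat.shiftRight (C.step (Cert.edge c x)) 16) 63
      set p := Nat.land (Nat.shiftRight (C.step (Cert.edge c x)) 22) 127
      set b := Nat.shiftRight (C.step (Cert.edge c x)) 29
      set w := C.rels.getD r [] with hw
      obtain ⟨l₁, m₁, e1⟩ := F.trace_eq ih _ _ hb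
      obtain ⟨l₂, m₂, e2⟩ := F.trace_eq ih _ _ hb'
      rw [hu] at e1
      rw [hu'] at e2
      have hsplit : w = w.take p ++ x :: w.drop (p + 1) := by
        conv_lhs => rw [← List.take_append_drop p w, List.drop_eq_getElem_cons hp]
        rw [← List.getD_eq_getElem _ 7 hp, hwx]
      have hrel := F.rel r hr
      rw [← hw, hsplit, List.reverse_append, List.reverse_cons, List.map_append, List.map_append, List.prod_append,
        List.prod_append, List.map_singleton, List.prod_singleton] at hrel
      set A := ((w.take p).reverse.map t).prod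
      set B := ((w.drop (p + 1)).reverse.map t).prod
      set Rb := ((C.word b).map t).prod
      set Rc := ((C.word c).map t).prod
      set Rd := ((C.word (C.tab c x)).map t).prod
      set U := ev v (fun j => C.sum j (w.take p) b) with hU
      set U' := ev v (fun j => C.sum j (w.drop (p + 1)) (C.tab c x)) with hU'
      set V := ev v (C.val (Cert.edge c x)) with hV
      have hval : ev v (C.rval r) = U * V * U' := by
        rw [hU, hV, hU', ← ev_add F.vcomm, ← ev_add F.vcomm]
        exact ev_congr F.exponent fun j hj =>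
          (Nat.eq_of_beq_eq_true (forallFrom_elim hsum (Nat.zero_le j) (by omega))).symm
      rw [hval] at hrel
      exact ⟨l₂⁻¹ * l₁⁻¹, mul_mem (inv_mem m₂) (inv_mem m₁),
        edge_alg (fun g => ev_comm F.vcomm _ g) (fun g => ev_comm F.vcomm _ g) (fun g => ev_comm F.vcomm _ g)
          e1 e2 hrel⟩

theorem relation (hgood : ∀ c < C.n, ∀ x < 7, Good C L t v c x) {Ls : List (ℕ × ℕ × ℕ)} {i a : ℕ}
    (hi : i < 11) (h : C.combOK Ls i a = true) : v i ^ a = 1 := by
  unfold Cert.combOK at h
  rw [Bool.and_eq_true, List.all_eq_true] at h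
  have key : ∀ e ∈ Ls, ev v (fun j => C.sum j (C.rels.getD e.1 []) e.2.1) = ev v (C.rval e.1) := by
    intro e he
    have h' := h.1 e he
    simp only [Bool.and_eq_true, Nat.blt_eq, Nat.beq_eq] at h'
    obtain ⟨⟨hr, hb⟩, htr⟩ := h'
    obtain ⟨l, hl, eq⟩ := F.trace_eq (fun c hc x hx _ => hgood c hc x hx) _ _ hb
    rw [htr, F.rel _ hr, (ev_comm F.vcomm _ _).symm.eq, mul_assoc, mul_right_inj, eq_comm] at eq
    rw [← mul_right_inj (ev v fun j => C.sum j (C.rels.getD e.1 []) e.2.1)⁻¹] at eq
    rw [inv_mul_cancel_left] at eq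
    have := F.free _ (mul_mem (inv_mem (F.ev_mem _)) (F.ev_mem _)) (eq ▸ hl)
    exact inv_mul_eq_one.1 this
  have hsum : ∀ l : List (ℕ × ℕ × ℕ), (∀ e ∈ l, e ∈ Ls) →
      ev v (fun j => List.sum (l.map fun e => Nat.mul e.2.2 (C.sum j (C.rels.getD e.1 []) e.2.1))) =
        ev v (fun j => List.sum (l.map fun e => Nat.mul e.2.2 (C.rval e.1 j))) := by
    intro l
    induction l with
    | nil => intro _; rfl
    | cons e l ih =>
      intro hl
      have hmul : ∀ (k : ℕ) (f : ℕ → ℕ), ev v (fun j => Nat.mul k (f j)) = ev v f ^ k := by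
        intro k f
        induction k with
        | zero => rw [pow_zero]; exact ev_zero fun j _ => Nat.zero_mul _
        | succ k ihk =>
          rw [pow_succ, ← ihk, ← ev_add F.vcomm]
          exact congrArg (ev v) (funext fun j => Nat.succ_mul k (f j))
      simp only [List.map_cons, List.sum_cons]
      rw [ev_add F.vcomm, ev_add F.vcomm, ih fun e' he' => hl e' (List.mem_cons_of_mem _ he'), hmul, hmul,
        key e (hl e List.mem_cons_self)]
  have h2 := ev_congr (v := v) F.exponent (f := fun j => (if j = i then a else 0) +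
      List.sum (Ls.map fun e => Nat.mul e.2.2 (C.sum j (C.rels.getD e.1 []) e.2.1)))
    (g := fun j => List.sum (Ls.map fun e => Nat.mul e.2.2 (C.rval e.1 j))) fun j hj => by
      have := Nat.eq_of_beq_eq_true (forallFrom_elim h.2 (Nat.zero_le j) (by omega))
      rw [beq_if] at this
      exact this
  rw [ev_add F.vcomm, hsum _ fun e he => he, mul_eq_right, ev_single hi fun j _ => rfl] at h2
  exact h2

end Fit

end CfsgLib.Recog.SporBound.Cocycle
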