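import Cfsg.Agent.Lib.ThreeTrans.CosetIndex.Table

/-!
Orbit chains: a lower bound for the group of permutations of a checked table (owner: helper13).
-/

set_option autoImplicit false

namespace CfsgLib.Recog.SporBound.OrbitChain

open CfsgLib.ThreeTrans.CosetIndex

/-- a level: base point, words fixing the earlier base points, steps (point, word), orbit size -/
structure Level where
  /-- base point -/
  pt : ℕ
  /-- words -/
  gens : List (List ℕ)
  /-- steps -/
  reach : List (ℕ × ℕ)
  /-- orbit size -/
  size : ℕ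

/-- the mask of the points reached -/
noncomputable def maskFrom (D : Data) (gens : List (List ℕ)) (reach : List (ℕ × ℕ)) (acc : ℕ) : ℕ :=
  List.rec (motive := fun _ => ℕ → ℕ) (fun acc => acc)
    (fun e _ ih acc => ih (cond (acc.testBit e.1)
      (Nat.lor acc (Nat.shiftLeft 1 (D.trace e.1 (gens.getD e.2 [])))) acc)) reach acc

/-- one level is valid over the prefix `pre` -/
noncomputable def levelOK (D : Data) (pre : List ℕ) (l : Level) : Bool :=
  Nat.blt l.pt D.n && (pre.all fun p => l.gens.all fun w => Nat.beq (D.trace p w) p) &&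
    Nat.ble l.size ((List.range D.n).countP (maskFrom D l.gens l.reach (Nat.shiftLeft 1 l.pt)).testBit)

/-- all levels are valid -/
noncomputable def chainOK (D : Data) : List ℕ → List Level → Bool
  | _, [] => true
  | pre, l :: ls => levelOK D pre l && chainOK D (pre ++ [l.pt]) ls

/-- the product of the orbit sizes -/
def total : List Level → ℕ
  | [] => 1
  | l :: ls => l.size * total ls

variable {D : Data} (hD : D.Valid) {G : Type*} [Group G] {a : ℕ → G} (φ : G →* Equiv.Perm (Fin D.n))

/-- image elements fixing a list of points -/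
def fixSet (pre : List ℕ) : Subgroup (Equiv.Perm (Fin D.n)) where
  carrier := {g | g ∈ φ.range ∧ ∀ c : Fin D.n, (c : ℕ) ∈ pre → g c = c}
  one_mem' := ⟨one_mem _, fun _ _ => rfl⟩
  mul_mem' := fun hg hh => ⟨mul_mem hg.1 hh.1, fun c hc => by
    rw [Equiv.Perm.mul_apply, hh.2 c hc, hg.2 c hc]⟩
  inv_mem' := fun hg => ⟨inv_mem hg.1, fun c hc => Equiv.Perm.inv_eq_iff_eq.2 (hg.2 c hc).symm⟩

variable (hφ : ∀ x, φ (a x) = Data.perm hD x)
include hD hφ

theorem wordPerm_mem (w : List ℕ) : (w.reverse.map (Data.perm hD)).prod ∈ φ.range :=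
  Subgroup.list_prod_mem _ fun g hg => by
    obtain ⟨x, -, rfl⟩ := List.mem_map.1 hg
    exact ⟨a x, hφ x⟩

theorem exists_of_mask {pre : List ℕ} {gens : List (List ℕ)}
    (hfix : ∀ p ∈ pre, ∀ w ∈ gens, D.trace p w = p) (b : Fin D.n) : ∀ (reach : List (ℕ × ℕ)) (acc : ℕ),
      (∀ p, acc.testBit p = true → ∃ g ∈ fixSet φ pre, ((g b : Fin D.n) : ℕ) = p) →
      ∀ p, (maskFrom D gens reach acc).testBit p = true → ∃ g ∈ fixSet φ pre, ((g b : Fin D.n) : ℕ) = p
  | [], acc, h => h
  | r :: rs, acc, hacc => by
    refine exists_of_mask hfix b rs _ fun p hp => ?_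
    cases hb : acc.testBit r.1 with
    | false => rw [hb] at hp; exact hacc p hp
    | true =>
      rw [hb] at hp
      change (acc ||| 1 <<< D.trace r.1 (gens.getD r.2 []) : ℕ).testBit p = true at hp
      rw [Nat.testBit_or, Nat.one_shiftLeft, Nat.testBit_two_pow, Bool.or_eq_true, decide_eq_true_eq] at hp
      rcases hp with hp | hp
      · exact hacc p hp
      obtain ⟨g, hg, hgp⟩ := hacc r.1 hb
      refine ⟨((gens.getD r.2 []).reverse.map (Data.perm hD)).prod * g, mul_mem ⟨wordPerm_mem hD φ hφ _,
        fun c hc => ?_⟩ hg, ?_⟩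
      · refine Fin.ext ?_
        rw [← Data.trace_eq hD]
        by_cases hj : r.2 < gens.length
        · rw [List.getD_eq_getElem _ _ hj]
          exact hfix _ hc _ (List.getElem_mem hj)
        · rw [List.getD_eq_default _ _ (by omega)]; rfl
      · rw [Equiv.Perm.mul_apply, ← Data.trace_eq hD, hgp, hp]

/-- The range has at least the product of the orbit sizes. -/
theorem total_le : ∀ (ls : List Level) (pre : List ℕ), chainOK D pre ls = true →
    total ls ≤ Nat.card (fixSet φ pre)
  | [], _, _ => Nat.card_pos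
  | l :: ls, pre, h => by
    classical
    simp only [chainOK, levelOK, Bool.and_eq_true, Nat.ble_eq, List.all_eq_true, Nat.beq_eq] at h
    obtain ⟨⟨⟨hlt, hfix⟩, hsz⟩, hrest⟩ := h
    have ih := total_le ls (pre ++ [l.pt]) hrest
    let b : Fin D.n := ⟨l.pt, by simpa using hlt⟩
    set m := maskFrom D l.gens l.reach (Nat.shiftLeft 1 l.pt)
    have hex : ∀ c : {c : Fin D.n // m.testBit c = true}, ∃ g ∈ fixSet φ pre, g b = c.1 := fun c => by
      obtain ⟨g, hg, hg'⟩ := exists_of_mask hD φ hφ hfix b l.reach (Nat.shiftLeft 1 l.pt) (by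
        intro p hp
        change (1 <<< l.pt : ℕ).testBit p = true at hp
        rw [Nat.one_shiftLeft, Nat.testBit_two_pow, decide_eq_true_eq] at hp
        exact ⟨1, one_mem _, hp⟩) c.1 c.2
      exact ⟨g, hg, Fin.ext hg'⟩
    choose g hg hgb using hex
    let F : {c : Fin D.n // m.testBit c = true} × fixSet φ (pre ++ [l.pt]) → fixSet φ pre := fun p =>
      ⟨g p.1 * p.2.1, mul_mem (hg p.1) ⟨p.2.2.1, fun c hc => p.2.2.2 c (List.mem_append_left _ hc)⟩⟩
    have hF : Function.Injective F := by
      intro p q hpq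
      have e := congrArg Subtype.val hpq
      have e' := congrArg (fun s : Equiv.Perm (Fin D.n) => s b) e
      simp only [F, Equiv.Perm.mul_apply, p.2.2.2 b (by simp [b]), q.2.2.2 b (by simp [b]), hgb] at e'
      have e1 := Subtype.ext e'
      simp only [F, e1] at e
      exact Prod.ext e1 (Subtype.ext (mul_left_cancel e))
    have hcard : (List.range D.n).countP m.testBit = Nat.card {c : Fin D.n // m.testBit c = true} := by
      rw [Nat.card_eq_fintype_card, Fintype.card_subtype, List.countP_eq_length_filter,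
        ← List.toFinset_card_of_nodup (List.nodup_range.filter _),
        ← Finset.card_map Fin.valEmbedding]
      congr 1
      ext c
      simp only [List.mem_toFinset, List.mem_filter, List.mem_range, Finset.mem_map, Finset.mem_filter,
        Finset.mem_univ, true_and, Fin.valEmbedding_apply]
      exact ⟨fun ⟨hc, hm⟩ => ⟨⟨c, hc⟩, hm, rfl⟩, fun ⟨d, hd, e⟩ => e ▸ ⟨d.2, hd⟩⟩
    calc total (l :: ls) = l.size * total ls := rfl
      _ ≤ Nat.card {c : Fin D.n // m.testBit c = true} * Nat.card (fixSet φ (pre ++ [l.pt])) :=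
        Nat.mul_le_mul (hsz.trans hcard.le) ih
      _ = Nat.card ({c : Fin D.n // m.testBit c = true} × fixSet φ (pre ++ [l.pt])) := (Nat.card_prod _ _).symm
      _ ≤ _ := Nat.card_le_card_of_injective F hF

/-- A valid chain from the empty prefix bounds the image from below. -/
theorem total_le_range {ls : List Level} (h : chainOK D [] ls = true) : total ls ≤ Nat.card φ.range :=
  (total_le hD φ hφ ls [] h).trans
    (Nat.card_le_card_of_injective (fun g => (⟨g.1, g.2.1⟩ : φ.range)) fun _ _ e =>
      Subtype.ext (congrArg Subtype.val e :))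

end CfsgLib.Recog.SporBound.OrbitChain
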