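import Cfsg.Agent.Lib.ThreeTrans.CosetIndex.Table

set_option autoImplicit false

/-!
Orbits and stabiliser chains read off a checked table: lower bounds for the group it generates
(owner: lead).
-/

namespace CfsgLib.Recog.SporBound

open CfsgLib.ThreeTrans.CosetIndex

/-- Adding points: an entry `(q, k)` applies word `k` to a point `q` already seen, giving a new point below `n`. -/
noncomputable def grow (D : Data) (ws : List (List ℕ)) (es : List (ℕ × ℕ)) (m : ℕ) : Option ℕ :=
  List.rec (motive := fun _ => ℕ → Option ℕ) (fun m => some m)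
    (fun e _ ih m => cond (m.testBit e.1 && Nat.blt e.2 ws.length && !m.testBit (D.trace e.1 (ws.getD e.2 [])))
      (ih (Nat.lor m (Nat.shiftLeft 1 (D.trace e.1 (ws.getD e.2 []))))) none) es m

/-- A level: base point, words, orbit entries. -/
abbrev Level := ℕ × List (List ℕ) × List (ℕ × ℕ)

/-- Checking a chain below the fixed points `prev`. -/
noncomputable def chainOK (D : Data) (prev : List ℕ) (Ls : List Level) : Bool :=
  List.rec (motive := fun _ => List ℕ → Bool) (fun _ => true)
    (fun L _ ih prev => Nat.blt L.1 D.n && (L.2.1.all (fun w => prev.all fun p => Nat.beq (D.trace p w) p) &&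
      ((grow D L.2.1 L.2.2 (Nat.shiftLeft 1 L.1)).isSome && ih (L.1 :: prev)))) Ls prev

variable {D : Data} (hD : D.Valid)

/-- The permutation of a word. -/
noncomputable def wperm (w : List ℕ) : Equiv.Perm (Fin D.n) := (w.reverse.map (Data.perm hD)).prod

theorem wperm_apply (w : List ℕ) (c : Fin D.n) : ((wperm hD w c : Fin D.n) : ℕ) = D.trace c w :=
  (Data.trace_eq hD w c).symm

theorem wperm_mem (w : List ℕ) : wperm hD w ∈ Subgroup.closure (Set.range (Data.perm hD)) :=
  Subgroup.list_prod_mem _ fun g hg => by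
    obtain ⟨x, -, rfl⟩ := List.mem_map.1 hg
    exact Subgroup.subset_closure ⟨x, rfl⟩

theorem testBit_lor_shift (m p i : ℕ) :
    (Nat.lor m (Nat.shiftLeft 1 p)).testBit i = (m.testBit i || decide (p = i)) := by
  change (m ||| 1 <<< p).testBit i = _
  rw [Nat.testBit_or, Nat.one_shiftLeft, Nat.testBit_two_pow]

theorem grow_cons {ws : List (List ℕ)} {e : ℕ × ℕ} {es : List (ℕ × ℕ)} {m m' : ℕ}
    (h : grow D ws (e :: es) m = some m') :
    (m.testBit e.1 = true ∧ e.2 < ws.length ∧ m.testBit (D.trace e.1 (ws.getD e.2 [])) = false) ∧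
      grow D ws es (Nat.lor m (Nat.shiftLeft 1 (D.trace e.1 (ws.getD e.2 [])))) = some m' := by
  have h' : cond (m.testBit e.1 && Nat.blt e.2 ws.length && !m.testBit (D.trace e.1 (ws.getD e.2 [])))
      (grow D ws es (Nat.lor m (Nat.shiftLeft 1 (D.trace e.1 (ws.getD e.2 []))))) none = some m' := h
  cases hc : (m.testBit e.1 && Nat.blt e.2 ws.length && !m.testBit (D.trace e.1 (ws.getD e.2 []))) with
  | false => rw [hc] at h'; simp at h'
  | true =>
    rw [hc, cond_true] at h'
    simp only [Bool.and_eq_true, Bool.not_eq_true'] at hc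
    exact ⟨⟨hc.1.1, by simpa using hc.1.2, hc.2⟩, h'⟩

theorem grow_forward (P : Fin D.n → Prop) {ws : List (List ℕ)}
    (hP : ∀ k < ws.length, ∀ c, P c → P (wperm hD (ws.getD k []) c)) :
    ∀ {es : List (ℕ × ℕ)} {m m' : ℕ}, (∀ i, m.testBit i = true → ∃ h : i < D.n, P ⟨i, h⟩) →
      grow D ws es m = some m' → ∀ i, m'.testBit i = true → ∃ h : i < D.n, P ⟨i, h⟩
  | [], m, m', hm, h => by
    have : m = m' := Option.some.inj h
    exact this ▸ hm
  | e :: es, m, m', hm, h => by
    obtain ⟨⟨h1, h2, -⟩, h'⟩ := grow_cons h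
    obtain ⟨hq, hPq⟩ := hm _ h1
    refine grow_forward P hP ?_ h'
    intro i hi
    rw [testBit_lor_shift, Bool.or_eq_true, decide_eq_true_eq] at hi
    rcases hi with hi | rfl
    · exact hm i hi
    · refine ⟨(Data.trace_eq hD (ws.getD e.2 []) ⟨e.1, hq⟩).symm ▸ Fin.is_lt _, ?_⟩
      convert hP e.2 h2 ⟨e.1, hq⟩ hPq
      exact Data.trace_eq hD (ws.getD e.2 []) ⟨e.1, hq⟩

theorem grow_backward (P : Fin D.n → Prop) {ws : List (List ℕ)}
    (hP : ∀ k < ws.length, ∀ c, P (wperm hD (ws.getD k []) c) → P c) :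
    ∀ {es : List (ℕ × ℕ)} {m m' : ℕ}, (∀ i, m.testBit i = true → i < D.n) →
      grow D ws es m = some m' → ∀ (i : ℕ) (hi : i < D.n), m'.testBit i = true → P ⟨i, hi⟩ →
      ∃ j, ∃ hj : j < D.n, m.testBit j = true ∧ P ⟨j, hj⟩
  | [], m, m', hm, h, i, hi, him, hPi => ⟨i, hi, (Option.some.inj h).symm ▸ him, hPi⟩
  | e :: es, m, m', hm, h, i, hi, him, hPi => by
    obtain ⟨⟨h1, h2, -⟩, h'⟩ := grow_cons h
    have hq := hm _ h1
    have htr := Data.trace_eq hD (ws.getD e.2 []) ⟨e.1, hq⟩
    obtain ⟨j, hj, hjm, hPj⟩ := grow_backward P hP (m := Nat.lor m (Nat.shiftLeft 1 (D.trace e.1 (ws.getD e.2 []))))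
      (fun l hl => by
        rw [testBit_lor_shift, Bool.or_eq_true, decide_eq_true_eq] at hl
        rcases hl with hl | rfl
        · exact hm l hl
        · exact htr.symm ▸ Fin.is_lt _) h' i hi him hPi
    rw [testBit_lor_shift, Bool.or_eq_true, decide_eq_true_eq] at hjm
    rcases hjm with hjm | rfl
    · exact ⟨j, hj, hjm, hPj⟩
    · refine ⟨e.1, hq, h1, hP e.2 h2 _ ?_⟩
      exact (Fin.ext htr : (⟨D.trace e.1 (ws.getD e.2 []), hj⟩ : Fin D.n) = wperm hD (ws.getD e.2 []) ⟨e.1, hq⟩) ▸ hPj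

theorem grow_card {ws : List (List ℕ)} : ∀ {es : List (ℕ × ℕ)} {m m' : ℕ} {S : Finset ℕ},
    (∀ i, i ∈ S ↔ m.testBit i = true) → grow D ws es m = some m' →
      ∃ S' : Finset ℕ, (∀ i, i ∈ S' ↔ m'.testBit i = true) ∧ S'.card = S.card + es.length
  | [], m, m', S, hS, h => ⟨S, (Option.some.inj h) ▸ hS, rfl⟩
  | e :: es, m, m', S, hS, h => by
    obtain ⟨⟨-, -, h3⟩, h'⟩ := grow_cons h
    set p := D.trace e.1 (ws.getD e.2 [])
    obtain ⟨S', hS', hc⟩ := grow_card (S := insert p S)
      (fun i => by rw [Finset.mem_insert, testBit_lor_shift, Bool.or_eq_true, decide_eq_true_eq, hS, or_comm]; simp only [eq_comm])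
      h'
    refine ⟨S', hS', ?_⟩
    rw [hc, Finset.card_insert_of_notMem (fun hp => by rw [(hS p).1 hp] at h3; simp at h3), List.length_cons]
    omega

theorem testBit_shift_one (b i : ℕ) : (Nat.shiftLeft 1 b).testBit i = decide (b = i) := by
  change (1 <<< b).testBit i = _
  rw [Nat.one_shiftLeft, Nat.testBit_two_pow]

theorem chain_card : ∀ {Ls : List Level} {prev : List ℕ} (R : Subgroup (Equiv.Perm (Fin D.n))),
    (∀ w : List ℕ, (∀ p ∈ prev, D.trace p w = p) → wperm hD w ∈ R) →
    chainOK D prev Ls = true → (Ls.map fun L => L.2.2.length + 1).prod ≤ Nat.card R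
  | [], prev, R, _, _ => by simpa using Nat.one_le_iff_ne_zero.2 Nat.card_pos.ne'
  | L :: Ls, prev, R, hR, h => by
    have h' : (Nat.blt L.1 D.n && (L.2.1.all (fun w => prev.all fun p => Nat.beq (D.trace p w) p) &&
      ((grow D L.2.1 L.2.2 (Nat.shiftLeft 1 L.1)).isSome && chainOK D (L.1 :: prev) Ls))) = true := h
    simp only [Bool.and_eq_true, List.all_eq_true, Nat.beq_eq, Option.isSome_iff_exists] at h'
    obtain ⟨hb, hfix, ⟨m', hg⟩, hrest⟩ := h'
    have hb' : L.1 < D.n := by simpa using hb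
    set b : Fin D.n := ⟨L.1, hb'⟩
    have horb := grow_forward hD (fun c => c ∈ MulAction.orbit R b) (ws := L.2.1) (fun k hk c hc => by
        have hw : wperm hD (L.2.1.getD k []) ∈ R := hR _ fun p hp => by
          rw [List.getD_eq_getElem _ _ hk]; exact hfix _ (List.getElem_mem hk) p hp
        obtain ⟨g, rfl⟩ := hc
        exact ⟨⟨_, hw⟩ * g, rfl⟩)
      (fun i hi => by
        rw [testBit_shift_one, decide_eq_true_eq] at hi
        subst hi
        exact ⟨hb', MulAction.mem_orbit_self _⟩) hg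
    obtain ⟨S, hS, hcard⟩ := grow_card (S := {L.1})
      (fun i => by rw [Finset.mem_singleton, testBit_shift_one, decide_eq_true_eq, eq_comm]) hg
    have h1 : L.2.2.length + 1 ≤ Nat.card (MulAction.orbit R b) := by
      rw [Finset.card_singleton, Nat.add_comm] at hcard
      rw [← hcard]
      let f : S → MulAction.orbit R b := fun i => ⟨⟨i.1, (horb _ ((hS _).1 i.2)).1⟩, (horb _ ((hS _).1 i.2)).2⟩
      rw [← Nat.card_eq_finsetCard]
      exact Nat.card_le_card_of_injective f fun i j hij =>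
        Subtype.ext (Fin.val_eq_of_eq (congrArg Subtype.val hij))
    have h2 := chain_card ((MulAction.stabilizer R b).map R.subtype) (prev := L.1 :: prev) (Ls := Ls)
      (fun w hw => ⟨⟨_, hR w fun p hp => hw p (List.mem_cons_of_mem _ hp)⟩,
        Fin.ext (by rw [show ((⟨wperm hD w, _⟩ : R) • b) = wperm hD w b from rfl, wperm_apply]; exact hw _ List.mem_cons_self),
        rfl⟩) hrest
    rw [Subgroup.card_map_of_injective Subtype.val_injective] at h2
    rw [List.map_cons, List.prod_cons, Nat.card_congr (MulAction.orbitProdStabilizerEquivGroup R b).symm, Nat.card_prod]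
    exact Nat.mul_le_mul h1 h2

end CfsgLib.Recog.SporBound
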