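import Cfsg.Agent.Lib.Recog.SporBound.Check

set_option autoImplicit false

/-!
Soundness of closure certificates (owner: lead).
-/

namespace CfsgLib.Recog.SporBound

open CfsgLib.ThreeTrans.CosetIndex

namespace Cert

variable {G : Type*} [Group G] {a : ℕ → G} {C : Cert}

theorem allIdx_elim {f : ℕ → ℕ → Bool} : ∀ {L : List ℕ} {start : ℕ}, allIdx f L start = true →
    ∀ i, start ≤ i → i < start + L.length → ∃ p, f i p = true
  | [], start, _, i, h1, h2 => absurd h2 (by simp only [List.length_nil]; omega)
  | p :: L, start, h, i, h1, h2 => by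
    have h' : (f start p && allIdx f L (start + 1)) = true := h
    rw [Bool.and_eq_true] at h'
    rcases eq_or_ne i start with rfl | hne
    · exact ⟨p, h'.1⟩
    · simp only [List.length_cons] at h2
      exact allIdx_elim h'.2 i (by omega) (by omega)

theorem chunks_elim {f : ℕ → ℕ → Bool} {T : Q (List ℕ)} {s M : ℕ}
    (h : forallFrom (fun k => allIdx f (T.get k) (s + 64 * k) &&
      (Nat.beq (T.get k).length 64 || Nat.ble M (s + 64 * k + (T.get k).length))) 0 ((M - s + 63) / 64) = true)
    {i : ℕ} (h1 : s ≤ i) (h2 : i < M) : ∃ p, f i p = true := by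
  set k := (i - s) / 64 with hk
  have hh := forallFrom_elim h (i := k) (Nat.zero_le _) (by omega)
  simp only [Bool.and_eq_true, Bool.or_eq_true, Nat.beq_eq, Nat.ble_eq] at hh
  refine allIdx_elim hh.1 i (by omega) ?_
  rcases hh.2 with h64 | hM <;> omega

section
variable {X : Type*} [MulAction G X] (hinv : ∀ x, a x * a x = 1)
include hinv

theorem walk_sound (he : a eqLetter = 1) {v : ℕ → X} {lim p off : ℕ}
    (hf : ∀ i < lim, Good a v (C.fact i)) : ∀ {k : ℕ} {s s' : ℕ × List ℕ},
      C.walk lim p off k s = some s' → ∃ u, s.2 = u ++ s'.2 ∧ actW a u (v s.1) = v s'.1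
  | 0, s, s', h => by
    have : s = s' := Option.some.inj h
    subst this
    exact ⟨[], rfl, rfl⟩
  | k + 1, s, s', h => by
    have h' : Option.rec none (fun s'' => cond (Nat.blt (fld p (off + k)) lim)
        (step1 (C.fact (fld p (off + k))) s'') none) (C.walk lim p off k s) = some s' := h
    cases hw : C.walk lim p off k s with
    | none => rw [hw] at h'; simp at h'
    | some m =>
      rw [hw] at h'
      cases hb : Nat.blt (fld p (off + k)) lim with
      | false => simp [hb] at h'
      | true =>
        simp only [hb, cond_true] at h'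
        obtain ⟨u, hu, hu'⟩ := walk_sound he hf hw
        obtain ⟨u', hu1, hu2⟩ := step1_sound a hinv he (hf _ (by simpa using hb)) h'
        refine ⟨u ++ u', by rw [hu, hu1, List.append_assoc], ?_⟩
        rw [actW_append, hu', hu2]

theorem stepOK_sound (he : a eqLetter = 1) {v : ℕ → X} {i p : ℕ}
    (hrel : ∀ w ∈ C.allRels, ∀ q : X, actW a w q = q) (hsub : ∀ w ∈ C.subs, actW a w (v 0) = v 0)
    (hf : ∀ j < i, Good a v (C.fact j)) (h : C.stepOK i p = true) : Good a v (C.fact i) := by
  set r := fld p 0 with hr
  set base := fld p 2 with hbase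
  set w := C.stepWord r (fld p 1) with hw
  simp only [stepOK, ← hr, ← hbase, ← hw, Bool.and_eq_true] at h
  obtain ⟨hcase, h⟩ := h
  have hclose : actW a w (v base) = v base := by
    cases hb : Nat.blt r C.allRels.length with
    | true =>
      rw [hw, stepWord, hb, cond_true]
      refine actW_rotate a hinv (hrel _ ?_) _ _
      have : r < C.allRels.length := by simpa using hb
      rw [List.getD_eq_getElem _ _ this]
      exact List.getElem_mem this
    | false =>
      rw [hb, Bool.false_or, Bool.and_eq_true] at hcase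
      rw [hw, stepWord, hb, cond_false, Nat.eq_of_beq_eq_true hcase.1]
      refine hsub _ ?_
      have : r - C.allRels.length < C.subs.length := by simpa using hcase.2
      rw [List.getD_eq_getElem _ _ this]
      exact List.getElem_mem this
  cases hF : C.walk i p 5 (fld p 3) (base, w) with
  | none => rw [hF] at h; simp at h
  | some f =>
    rw [hF] at h
    dsimp only at h
    cases hB : C.walk i p (5 + fld p 3) (fld p 4) (base, f.2.reverse) with
    | none => rw [hB] at h; simp at h
    | some b =>
      rw [hB] at h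
      dsimp only at h
      obtain ⟨u, hu, hu'⟩ := walk_sound hinv he hf hF
      obtain ⟨s, hs, hs'⟩ := walk_sound hinv he hf hB
      dsimp only at hu hu' hs hs'
      have hf2 : f.2 = b.2.reverse ++ s.reverse := by
        rw [← List.reverse_append, ← hs, List.reverse_reverse]
      have hsb : actW a s.reverse (v b.1) = v base := by rw [← hs', actW_rev a hinv]
      have hkey : actW a b.2.reverse (v f.1) = v b.1 := by
        have h1 : actW a s.reverse (actW a b.2.reverse (v f.1)) = v base := by
          rw [← actW_append, ← hf2, ← hu', ← actW_append, ← hu]; exact hclose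
        rw [← hsb] at h1
        have h2 := congrArg (actW a s.reverse.reverse) h1
        rwa [actW_rev a hinv, actW_rev a hinv] at h2
      unfold Good
      match hb2 : b.2 with
      | [] =>
        simp only [hb2, Bool.and_eq_true, Nat.beq_eq] at h
        rw [h.1, h.2.1, h.2.2, he, one_smul]
        rw [hb2] at hkey
        exact hkey
      | [x] =>
        simp only [hb2, Bool.and_eq_true, Nat.beq_eq] at h
        rw [h.1, h.2.1, h.2.2]
        rw [hb2] at hkey
        exact hkey
      | _ :: _ :: _ => simp [hb2] at h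

end

variable (hinv : ∀ x, a x * a x = 1) (he : a eqLetter = 1)

/-- A list of words inside a subgroup, read as products. -/
def WordsIn (a : ℕ → G) (H : Subgroup G) (L : List (List ℕ)) : Prop := ∀ w ∈ L, (w.map a).prod ∈ H

include hinv he in
/-- The cosets met by the followed letters are among `n` of them. -/
theorem exists_orbit (hC : C.OK) (H : Subgroup G) (hrel : ∀ w ∈ C.rels, (w.map a).prod = 1)
    (hsub : WordsIn a H C.subs) :
    ∃ (v : ℕ → G ⧸ H), v 0 = ((1 : G) : G ⧸ H) ∧ (∀ i < C.nf, Good a v (C.fact i)) ∧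
      ∀ k ∈ Subgroup.closure {g | ∃ x ∈ C.kl, g = a x}, ∃ c < C.n, k • v 0 = v (C.nodeOf c) := by
  classical
  have hdef : ∀ i < C.nd, fdst (C.fact i) = i + 1 ∧ fsrc (C.fact i) ≤ i := fun i hi => by
    have := forallFrom_elim hC.defs (Nat.zero_le i) (by omega)
    simpa [defOK] using this
  let step : ℕ → (ℕ → G ⧸ H) → G ⧸ H := fun i f => a (flet (C.fact i)) • f (fsrc (C.fact i))
  let tbl : ℕ → (ℕ → G ⧸ H) := fun m => Nat.rec (fun _ => ((1 : G) : G ⧸ H))
    (fun i f => Function.update f (i + 1) (step i f)) m
  let v : ℕ → G ⧸ H := fun j => tbl j j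
  have tblS : ∀ i, tbl (i + 1) = Function.update (tbl i) (i + 1) (step i (tbl i)) := fun i => rfl
  have stable : ∀ j m, j ≤ m → tbl m j = v j := by
    intro j m hjm
    induction m with
    | zero => rw [Nat.le_zero.mp hjm]
    | succ m ih =>
      rcases Nat.lt_or_ge j (m + 1) with h | h
      · rw [tblS, Function.update_of_ne (by omega)]; exact ih (by omega)
      · rw [show j = m + 1 by omega]
  have hv0 : v 0 = ((1 : G) : G ⧸ H) := rfl
  have good_def : ∀ i < C.nd, Good a v (C.fact i) := fun i hi => by
    obtain ⟨h1, h2⟩ := hdef i hi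
    show a (flet (C.fact i)) • v (fsrc (C.fact i)) = v (fdst (C.fact i))
    rw [h1]
    show _ = tbl (i + 1) (i + 1)
    rw [tblS, Function.update_self, show step i (tbl i) = a (flet (C.fact i)) • tbl i (fsrc (C.fact i)) from rfl,
      stable _ _ h2]
  have hrel' : ∀ w ∈ C.allRels, ∀ q : G ⧸ H, actW a w q = q := by
    intro w hw q
    rw [actW_eq, prod_reverse_eq_inv a hinv]
    rcases List.mem_append.mp hw with h | h
    · rw [hrel w h, inv_one, one_smul]
    · obtain ⟨u, hu, rfl⟩ := List.mem_map.mp h
      rw [prod_reverse_eq_inv a hinv, hrel u hu, inv_one, inv_one, one_smul]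
  have hsub' : ∀ w ∈ C.subs, actW a w (v 0) = v 0 := by
    intro w hw
    rw [actW_eq, prod_reverse_eq_inv a hinv, hv0, MulAction.Quotient.smul_coe, smul_eq_mul, mul_one,
      QuotientGroup.eq]
    simpa using hsub w hw
  have good : ∀ i < C.nf, Good a v (C.fact i) := by
    intro i
    induction i using Nat.strong_induction_on with
    | _ i ih =>
      intro hi
      rcases Nat.lt_or_ge i C.nd with h | h
      · exact good_def i h
      · obtain ⟨p, hp⟩ := chunks_elim (f := C.stepOK) hC.steps h hi
        exact stepOK_sound hinv he hrel' hsub' (fun j hj => ih j hj (by omega)) hp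
  have hn : 0 < C.n ∧ C.nodeOf 0 = 0 ∧ C.nd ≤ C.nf := by
    simpa [and_assoc] using hC.base
  let S : Set (G ⧸ H) := (fun c => v (C.nodeOf c)) '' Set.Iio C.n
  have closed : ∀ x ∈ C.kl, ∀ q ∈ S, a x • q ∈ S := by
    rintro x hx _ ⟨c, hc, rfl⟩
    have hlen : 0 < C.kl.length := List.length_pos_of_mem hx
    have hj : C.kl.idxOf x < C.kl.length := List.idxOf_lt_length_iff.mpr hx
    have hfin : C.finalsPart 0 C.finalChunks = true := hC.finals
    rw [finalsPart, finalChunks] at hfin
    obtain ⟨p, hp⟩ := chunks_elim (f := C.finalOK) (s := 0) (M := C.n * C.kl.length) (T := C.finals)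
      (by simpa using hfin) (i := c * C.kl.length + C.kl.idxOf x) (Nat.zero_le _)
      (by
        have hc' : c + 1 ≤ C.n := hc
        have := Nat.mul_le_mul_right C.kl.length hc'
        rw [Nat.add_mul] at this
        omega)
    have e1 : (c * C.kl.length + C.kl.idxOf x) / C.kl.length = c := by
      rw [Nat.mul_comm, Nat.mul_add_div hlen, Nat.div_eq_of_lt hj, Nat.add_zero]
    have e2 : (c * C.kl.length + C.kl.idxOf x) % C.kl.length = C.kl.idxOf x := by
      rw [Nat.mul_comm, Nat.mul_add_mod, Nat.mod_eq_of_lt hj]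
    rw [finalOK, e1, e2, List.getD_eq_getElem _ _ hj, List.getElem_idxOf] at hp
    unfold endsAt at hp
    cases hw : C.walk C.nf p 2 (fld p 1) (C.nodeOf c, [x]) with
    | none => rw [hw] at hp; simp at hp
    | some r =>
      rw [hw] at hp
      simp only [Bool.and_eq_true, Nat.beq_eq, List.isEmpty_iff] at hp
      obtain ⟨u, hu, hu'⟩ := walk_sound hinv he good hw
      rw [hp.2.2, List.append_nil] at hu
      dsimp only at hu hu'
      rw [← hu] at hu'
      simp only [actW] at hu'
      exact ⟨fld p 0, by simpa using hp.1, by rw [hu', hp.2.1]⟩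
  have base : v 0 ∈ S := ⟨0, hn.1, congrArg v hn.2.1⟩
  refine ⟨v, hv0, good, fun k hk => ?_⟩
  have hall : ∀ q ∈ S, k • q ∈ S ∧ k⁻¹ • q ∈ S := by
    induction hk using Subgroup.closure_induction with
    | mem g hg =>
      obtain ⟨x, hx, rfl⟩ := hg
      intro q hq
      exact ⟨closed x hx q hq, by rw [inv_eq_of_mul_eq_one_right (hinv x)]; exact closed x hx q hq⟩
    | one => intro q hq; simpa using hq
    | mul g g' _ _ ihg ihg' =>
      intro q hq
      refine ⟨?_, ?_⟩
      · rw [mul_smul]; exact (ihg _ (ihg' q hq).1).1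
      · rw [mul_inv_rev, mul_smul]; exact (ihg' _ (ihg q hq).2).2
    | inv g _ ihg => intro q hq; rw [inv_inv]; exact ⟨(ihg q hq).2, (ihg q hq).1⟩
  obtain ⟨c, hc, hcq⟩ := (hall _ base).1
  exact ⟨c, hc, hcq.symm⟩

include hinv he in
/-- A subgroup generated by followed letters has at most `n` times the order of `H`. -/
theorem card_le (hC : C.OK) (H K : Subgroup G) [Finite H] (hrel : ∀ w ∈ C.rels, (w.map a).prod = 1)
    (hsub : WordsIn a H C.subs) (hK : K ≤ Subgroup.closure {g | ∃ x ∈ C.kl, g = a x}) :
    Finite K ∧ Nat.card K ≤ C.n * Nat.card H := by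
  classical
  obtain ⟨v, hv0, -, horb⟩ := exists_orbit hinv he hC H hrel hsub
  choose c hc hcv using fun k : K => horb k.1 (hK k.2)
  have hmem : ∀ k : K, (Quotient.out (v (C.nodeOf (c k))))⁻¹ * (k : G) ∈ H := fun k => by
    rw [← QuotientGroup.eq, QuotientGroup.out_eq', ← hcv k, hv0, MulAction.Quotient.smul_coe,
      smul_eq_mul, mul_one]
  let f : K → Fin C.n × H := fun k => (⟨c k, hc k⟩, ⟨_, hmem k⟩)
  have hf : Function.Injective f := fun k k' h => by
    simp only [f, Prod.mk.injEq, Fin.mk.injEq, Subtype.mk.injEq] at h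
    rw [h.1] at h
    exact Subtype.ext (mul_left_cancel h.2)
  refine ⟨Finite.of_injective f hf, ?_⟩
  simpa [Nat.card_prod] using Nat.card_le_card_of_injective f hf

/-- A word that is traced back to the base lies in `H`. -/
theorem mem_of_endsAt {H : Subgroup G} {v : ℕ → G ⧸ H} (hinv : ∀ x, a x * a x = 1) (he : a eqLetter = 1)
    (hC : C.OK) (hv0 : v 0 = ((1 : G) : G ⧸ H)) (good : ∀ i < C.nf, Good a v (C.fact i))
    {p : ℕ} {w : List ℕ} (hp : C.endsAt p 0 w = true) (h0 : fld p 0 = 0) : (w.map a).prod ∈ H := by
  unfold endsAt at hp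
  cases hw : C.walk C.nf p 2 (fld p 1) (0, w) with
  | none => rw [hw] at hp; simp at hp
  | some r =>
    rw [hw] at hp
    simp only [Bool.and_eq_true, Nat.beq_eq, List.isEmpty_iff, h0] at hp
    obtain ⟨u, hu, hu'⟩ := walk_sound hinv he good hw
    rw [hp.2.2, List.append_nil] at hu
    dsimp only at hu hu'
    have hb := hC.base
    simp only [Bool.and_eq_true, Nat.beq_eq] at hb
    rw [← hu, hp.2.1, hb.1.2, actW_eq, prod_reverse_eq_inv a hinv, hv0, MulAction.Quotient.smul_coe,
      smul_eq_mul, mul_one, QuotientGroup.eq] at hu'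
    simpa using hu'

end Cert

end CfsgLib.Recog.SporBound
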